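/-
Orbit bound for the number of classes of `π`-elements, split along a prime with abelian Sylow
subgroup.
-/
import Mathlib
import Cfsg.Agent.Lib.FGStruct.ManyClasses

set_option autoImplicit false
set_option linter.style.haveILetI false

namespace Cfsg.Agent.PiClasses

open Cfsg.Agent.PBasic
open Cfsg.Agent

universe u

variable {G : Type u} [Group G] [Finite G] {q : ℕ} [hq : Fact q.Prime]

/-- All primes dividing the order of `x` lie in `σ`. -/
def IsSig (σ : Finset ℕ) {H : Type*} [Group H] (x : H) : Prop :=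
  ∀ r : ℕ, r.Prime → r ∣ orderOf x → r ∈ σ

/-- The classes of `σ`-elements. -/
abbrev Cl (σ : Finset ℕ) (H : Type*) [Group H] : Type _ :=
  {c : ConjClasses H // ∀ x ∈ c.carrier, ∀ r : ℕ, r.Prime → r ∣ orderOf x → r ∈ σ}

omit [Finite G] hq in
theorem kpi_eq (σ : Finset ℕ) : ManyClasses.kpi σ G = Nat.card (Cl σ G) := rfl

omit [Finite G] hq in
/-- The class of a `σ`-element. -/
def clMk {σ : Finset ℕ} (x : G) (hx : IsSig σ x) : Cl σ G :=
  ⟨ConjClasses.mk x,
    (ManyClasses.forall_mk_carrier (q := fun n => ∀ r : ℕ, r.Prime → r ∣ n → r ∈ σ)).2 hx⟩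

omit [Finite G] hq in
theorem sig_out {σ : Finset ℕ} (c : Cl σ G) : IsSig σ c.1.out :=
  c.2 _ (ConjClasses.mem_carrier_iff_mk_eq.2 (Quotient.out_eq c.1))

omit [Finite G] hq in
theorem isSig_conj {σ : Finset ℕ} {x : G} (g : G) (hx : IsSig σ x) : IsSig σ (g * x * g⁻¹) := by
  intro r hr hd
  rw [show g * x * g⁻¹ = (MulAut.conj g).toMonoidHom x from rfl,
    orderOf_injective _ (MulAut.conj g).injective] at hd
  exact hx r hr hd

/-- Splitting a class of `π`-elements at the prime `q`, sorted by the `σ`-part. -/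
theorem decomposition (σ : Finset ℕ) [Fintype (Cl σ G)] :
    ManyClasses.kpi (insert q σ) G ≤
      ∑ c : Cl σ G, ManyClasses.kp q ↥(Subgroup.centralizer ({c.1.out} : Set G)) := by
  set Φ : (Σ c : Cl σ G, {d : ConjClasses ↥(Subgroup.centralizer ({c.1.out} : Set G)) //
      ∀ x ∈ d.carrier, ∃ k : ℕ, orderOf x = q ^ k}) → ConjClasses G :=
    fun cd => ConjClasses.mk (cd.1.1.out * (cd.2.1.out : G)) with hΦ
  refine le_trans ?_ ((Nat.card_le_card_of_surjective (Set.rangeFactorization Φ)
    Set.rangeFactorization_surjective).trans (le_of_eq Nat.card_sigma))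
  refine Nat.card_le_card_of_injective (fun c => (⟨c.1, ?_⟩ : Set.range Φ)) ?_
  · obtain ⟨c, hc⟩ := c
    obtain ⟨z, rfl⟩ := ConjClasses.exists_rep c
    obtain ⟨u, v, huv, hu, hv, hk, hcop⟩ := exists_pPart_mul (p := q) z
    have hvs : IsSig σ v := by
      intro s hs hsd
      rcases Finset.mem_insert.1
        (hc z ConjClasses.mem_carrier_mk s hs (hsd.trans (orderOf_dvd_of_mem_zpowers hv))) with rfl | h
      · exact absurd (Nat.eq_one_of_dvd_coprimes hcop hsd dvd_rfl) hs.ne_one
      · exact h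
    set cv : Cl σ G := clMk v hvs with hcv
    set v₀ := cv.1.out with hv₀
    obtain ⟨g, hg⟩ := isConj_iff.1 (ConjClasses.mk_eq_mk_iff_isConj.1
      (show ConjClasses.mk v = ConjClasses.mk v₀ from (Quotient.out_eq cv.1).symm))
    have hcomm : Commute u v := by
      obtain ⟨i, rfl⟩ := hu
      obtain ⟨j, rfl⟩ := hv
      exact (Commute.refl z).zpow_zpow i j
    have hu₀ : g * u * g⁻¹ ∈ Subgroup.centralizer ({v₀} : Set G) := by
      rw [Subgroup.mem_centralizer_singleton_iff, ← hg]
      have := hcomm.map (MulAut.conj g).toMonoidHom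
      exact this
    set u₀ : ↥(Subgroup.centralizer ({v₀} : Set G)) := ⟨g * u * g⁻¹, hu₀⟩ with hu₀d
    have hdu : ∀ x ∈ (ConjClasses.mk u₀).carrier, ∃ k : ℕ, orderOf x = q ^ k := by
      refine (ManyClasses.forall_mk_carrier (q := fun n => ∃ k : ℕ, n = q ^ k)).2 ?_
      obtain ⟨k, hk'⟩ := hk
      refine ⟨k, ?_⟩
      rw [hu₀d, Subgroup.orderOf_mk, show g * u * g⁻¹ = (MulAut.conj g).toMonoidHom u from rfl,
        orderOf_injective _ (MulAut.conj g).injective, hk']
    refine ⟨⟨cv, ⟨ConjClasses.mk u₀, hdu⟩⟩, ?_⟩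
    obtain ⟨e, he⟩ := isConj_iff.1 (ConjClasses.mk_eq_mk_iff_isConj.1
      (show ConjClasses.mk u₀ = ConjClasses.mk (ConjClasses.mk u₀).out from (Quotient.out_eq _).symm))
    show ConjClasses.mk (v₀ * ((ConjClasses.mk u₀).out : G)) = ConjClasses.mk z
    rw [← he]
    have hee : (e : G) * v₀ = v₀ * (e : G) := Subgroup.mem_centralizer_singleton_iff.1 e.2
    rw [show v₀ * ((e * u₀ * e⁻¹ : ↥(Subgroup.centralizer ({v₀} : Set G))) : G) =
        (e : G) * (v₀ * (g * u * g⁻¹)) * (e : G)⁻¹ by
      push_cast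
      rw [hu₀d, ← mul_assoc (e : G) v₀, hee]
      simp only [mul_assoc]]
    rw [ManyClasses.mk_conj, ← hg, ← huv,
      show g * v * g⁻¹ * (g * u * g⁻¹) = g * (v * u) * g⁻¹ by group, ManyClasses.mk_conj, hcomm.eq]
  · intro a b hab
    simp only [Subtype.mk.injEq] at hab
    exact Subtype.ext hab

omit hq in
theorem centralizer_le_normalizer (Q : Subgroup G) :
    Subgroup.centralizer (Q : Set G) ≤ Subgroup.normalizer (Q : Set G) := by
  intro x hx
  rw [Subgroup.mem_normalizer_iff]
  intro y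
  have hfix : ∀ z ∈ Q, x * z * x⁻¹ = z := fun z hz => by
    rw [← Subgroup.mem_centralizer_iff.1 hx z hz, mul_inv_cancel_right]
  constructor
  · intro hy; rwa [hfix y hy]
  · intro hy
    have h1 := hfix _ hy
    rw [conj_injective h1] at hy
    exact hy
where
  conj_injective {x y : G} (h : x * (x * y * x⁻¹) * x⁻¹ = x * y * x⁻¹) : x * y * x⁻¹ = y :=
    (MulAut.conj x).injective h

/-- An element whose class size is prime to `q` centralizes a conjugate of the Sylow subgroup. -/
theorem exists_conj_mem_centralizer (Q : Sylow q G) {v : G}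
    (hv : ¬ q ∣ (Subgroup.centralizer ({v} : Set G)).index) :
    ∃ g : G, g * v * g⁻¹ ∈ Subgroup.centralizer ((Q : Subgroup G) : Set G) := by
  set L := Subgroup.centralizer ({v} : Set G) with hL
  obtain ⟨S⟩ : Nonempty (Sylow q L) := inferInstance
  obtain ⟨P, hP⟩ := (S.isPGroup'.map L.subtype).exists_le_sylow
  have hcard : Nat.card ((S : Subgroup L).map L.subtype) = Nat.card (P : Subgroup G) := by
    rw [Subgroup.card_map_of_injective L.subtype_injective, S.card_eq_multiplicity,
      P.card_eq_multiplicity, ← Subgroup.card_mul_index L,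
      Nat.factorization_mul Nat.card_pos.ne' L.index_ne_zero_of_finite]
    simp [Nat.factorization_eq_zero_of_not_dvd hv]
  have hPL : (P : Subgroup G) ≤ L := by
    rw [← Subgroup.eq_of_le_of_card_ge hP hcard.ge]; exact Subgroup.map_subtype_le _
  obtain ⟨g, hg⟩ := MulAction.exists_smul_eq G P Q
  refine ⟨g, Subgroup.mem_centralizer_iff.2 fun y hy => ?_⟩
  have hy' : g⁻¹ * y * g ∈ (P : Subgroup G) := by
    rw [SetLike.mem_coe, ← hg, Sylow.coe_subgroup_smul, Subgroup.mem_pointwise_smul_iff_inv_smul_mem] at hy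
    simpa [MulAut.smul_def, mul_assoc] using hy
  have h1 := Subgroup.mem_centralizer_singleton_iff.1 (hPL hy')
  calc y * (g * v * g⁻¹) = g * ((g⁻¹ * y * g) * v) * g⁻¹ := by group
    _ = g * (v * (g⁻¹ * y * g)) * g⁻¹ := by rw [h1]
    _ = g * v * g⁻¹ * y := by group

/-- The key per-class estimate for `v` centralizing `Q`. -/
theorem class_bound (Q : Sylow q G) {v : G}
    (hv : v ∈ Subgroup.centralizer ((Q : Subgroup G) : Set G)) :
    q * Nat.card ↥(Subgroup.normalizer ((Q : Subgroup G) : Set G) ⊓ Subgroup.centralizer ({v} : Set G)) *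
        ManyClasses.kp q ↥(Subgroup.centralizer ({v} : Set G)) ≤
      Nat.card ↥(Q : Subgroup G) *
        (Nat.card ↥(Subgroup.normalizer ((Q : Subgroup G) : Set G) ⊓ Subgroup.centralizer ({v} : Set G)) +
          (q - 1) * Nat.card ↥(Subgroup.centralizer ((Q : Subgroup G) : Set G) ⊓
            Subgroup.centralizer ({v} : Set G))) := by
  classical
  set N := Subgroup.normalizer ((Q : Subgroup G) : Set G) with hN
  set C := Subgroup.centralizer ((Q : Subgroup G) : Set G) with hC
  set L := Subgroup.centralizer ({v} : Set G) with hL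
  set M := N ⊓ L with hM
  letI : MulAction ↥M ↥(Q : Subgroup G) :=
    { smul := fun m y => ⟨(m : G) * y * (m : G)⁻¹, (Subgroup.mem_normalizer_iff.1 m.2.1 _).1 y.2⟩
      one_smul := fun y => Subtype.ext (by show ((1 : ↥M) : G) * y * ((1 : ↥M) : G)⁻¹ = y; simp)
      mul_smul := fun m n y => Subtype.ext (by
        show ((m * n : ↥M) : G) * y * ((m * n : ↥M) : G)⁻¹ = (m : G) * ((n : G) * y * (n : G)⁻¹) * (m : G)⁻¹
        push_cast; group) }
  haveI := Fintype.ofFinite ↥M
  haveI := Fintype.ofFinite ↥(Q : Subgroup G)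
  haveI := Fintype.ofFinite (MulAction.orbitRel.Quotient ↥M ↥(Q : Subgroup G))
  haveI : ∀ m : ↥M, Fintype (MulAction.fixedBy ↥(Q : Subgroup G) m) := fun _ => Fintype.ofFinite _
  have hB := MulAction.sum_card_fixedBy_eq_card_orbits_mul_card_group ↥M ↥(Q : Subgroup G)
  have hQL : (Q : Subgroup G) ≤ L := fun y hy =>
    Subgroup.mem_centralizer_singleton_iff.2 (Subgroup.mem_centralizer_iff.1 hv y hy)
  -- classes of q-elements are covered by orbits
  have hk : ManyClasses.kp q ↥L ≤
      Nat.card (MulAction.orbitRel.Quotient ↥M ↥(Q : Subgroup G)) := by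
    refine Nat.card_le_card_of_surjective
      (Quotient.lift (fun y : ↥(Q : Subgroup G) => ManyClasses.cls (Q.subtype hQL) ⟨⟨y, hQL y.2⟩, y.2⟩) ?_) ?_
    · rintro a b ⟨m, rfl⟩
      refine Subtype.ext (ConjClasses.mk_eq_mk_iff_isConj.2 (IsConj.symm ?_))
      exact isConj_iff.2 ⟨⟨m, m.2.2⟩, Subtype.ext rfl⟩
    · intro d
      obtain ⟨y, rfl⟩ := ManyClasses.cls_surjective (Q.subtype hQL) d
      exact ⟨Quotient.mk'' ⟨_, y.2⟩, rfl⟩
  -- fixed points
  have hfix : ∀ m : ↥M, q * Fintype.card (MulAction.fixedBy ↥(Q : Subgroup G) m) ≤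
      Nat.card ↥(Q : Subgroup G) +
        if (m : G) ∈ C then (q - 1) * Nat.card ↥(Q : Subgroup G) else 0 := by
    intro m
    have hle : Fintype.card (MulAction.fixedBy ↥(Q : Subgroup G) m) ≤ Nat.card ↥(Q : Subgroup G) := by
      rw [← Nat.card_eq_fintype_card]; exact Nat.card_le_card_of_injective _ Subtype.val_injective
    by_cases hm : (m : G) ∈ C
    · rw [if_pos hm]
      calc q * Fintype.card (MulAction.fixedBy ↥(Q : Subgroup G) m)
          ≤ q * Nat.card ↥(Q : Subgroup G) := Nat.mul_le_mul_left _ hle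
        _ = _ := by
          obtain ⟨j, rfl⟩ : ∃ j, q = j + 1 := ⟨q - 1, (Nat.succ_pred_eq_of_pos hq.out.pos).symm⟩
          simp; ring
    · rw [if_neg hm, add_zero]
      set F := (Subgroup.centralizer ({(m : G)} : Set G)).subgroupOf (Q : Subgroup G) with hF
      have hcard : Fintype.card (MulAction.fixedBy ↥(Q : Subgroup G) m) = Nat.card F := by
        rw [← Nat.card_eq_fintype_card]
        refine Nat.card_congr (Equiv.subtypeEquivRight fun y => ?_)
        rw [MulAction.mem_fixedBy, hF, Subgroup.mem_subgroupOf, Subgroup.mem_centralizer_singleton_iff,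
          Subtype.ext_iff]
        show (m : G) * y * (m : G)⁻¹ = y ↔ _
        rw [mul_inv_eq_iff_eq_mul, eq_comm]
      rw [hcard]
      obtain ⟨j, hj⟩ := Q.isPGroup'.index F
      rw [← F.card_mul_index, hj, mul_comm]
      refine Nat.mul_le_mul_left _ (Nat.le_self_pow ?_ q)
      rintro rfl
      rw [pow_zero, Subgroup.index_eq_one] at hj
      refine hm (Subgroup.mem_centralizer_iff.2 fun y hy => ?_)
      have : (⟨y, hy⟩ : ↥(Q : Subgroup G)) ∈ F := hj ▸ Subgroup.mem_top _
      rw [hF, Subgroup.mem_subgroupOf, Subgroup.mem_centralizer_singleton_iff] at this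
      exact this
  have hsum := Finset.sum_le_sum fun m (_ : m ∈ (Finset.univ : Finset ↥M)) => hfix m
  rw [← Finset.mul_sum, hB, Finset.sum_add_distrib, Finset.sum_const, Finset.card_univ, smul_eq_mul,
    ← Finset.sum_filter, Finset.sum_const, smul_eq_mul, ← Fintype.card_subtype] at hsum
  have hCM : Fintype.card {m : ↥M // (m : G) ∈ C} = Nat.card ↥(C ⊓ L) := by
    rw [← Nat.card_eq_fintype_card]
    exact Nat.card_congr
      { toFun := fun m => ⟨(m.1 : G), m.2, m.1.2.2⟩
        invFun := fun x => ⟨⟨x, centralizer_le_normalizer _ x.2.1, x.2.2⟩, x.2.1⟩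
        left_inv := fun _ => rfl
        right_inv := fun _ => rfl }
  rw [hCM, ← Nat.card_eq_fintype_card, ← Nat.card_eq_fintype_card] at hsum
  calc q * Nat.card ↥M * ManyClasses.kp q ↥L
      ≤ q * Nat.card ↥M * Nat.card (MulAction.orbitRel.Quotient ↥M ↥(Q : Subgroup G)) :=
        Nat.mul_le_mul_left _ hk
    _ = q * (Nat.card (MulAction.orbitRel.Quotient ↥M ↥(Q : Subgroup G)) * Nat.card ↥M) := by ring
    _ ≤ _ := hsum
    _ = _ := by ring

omit hq in
theorem conj_mem_centralizer {Q : Subgroup G} {n x : G} (hn : n ∈ Subgroup.normalizer (Q : Set G))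
    (hx : x ∈ Subgroup.centralizer (Q : Set G)) : n * x * n⁻¹ ∈ Subgroup.centralizer (Q : Set G) := by
  refine Subgroup.mem_centralizer_iff.2 fun y hy => ?_
  have hy' : n⁻¹ * y * n ∈ Q := (Subgroup.mem_normalizer_iff.1 hn _).2 (by simpa [mul_assoc] using hy)
  have h := Subgroup.mem_centralizer_iff.1 hx _ hy'
  calc y * (n * x * n⁻¹) = n * ((n⁻¹ * y * n) * x) * n⁻¹ := by group
    _ = n * (x * (n⁻¹ * y * n)) * n⁻¹ := by rw [h]
    _ = n * x * n⁻¹ * y := by group

/-- The classes of the centralizer of `Q` inside the class of `v` fill the orbit of the normalizer. -/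
theorem fibre_orbit (Q : Sylow q G) {σ : Finset ℕ} {v : G}
    (hv : v ∈ Subgroup.centralizer ((Q : Subgroup G) : Set G)) (hvs : IsSig σ v) :
    Nat.card ↥(Subgroup.normalizer ((Q : Subgroup G) : Set G)) *
        Nat.card ↥(Subgroup.centralizer ((Q : Subgroup G) : Set G) ⊓ Subgroup.centralizer ({v} : Set G)) ≤
      Nat.card {d : Cl σ ↥(Subgroup.centralizer ((Q : Subgroup G) : Set G)) //
          ConjClasses.mk (d.1.out : G) = ConjClasses.mk v} *
        Nat.card ↥(Subgroup.centralizer ((Q : Subgroup G) : Set G)) *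
        Nat.card ↥(Subgroup.normalizer ((Q : Subgroup G) : Set G) ⊓ Subgroup.centralizer ({v} : Set G)) := by
  classical
  set N := Subgroup.normalizer ((Q : Subgroup G) : Set G) with hN
  set C := Subgroup.centralizer ((Q : Subgroup G) : Set G) with hC
  set L := Subgroup.centralizer ({v} : Set G) with hL
  set C' := C.subgroupOf N with hC'
  set M' := L.subgroupOf N with hM'
  haveI : C'.Normal := ⟨fun x hx n => by
    rw [hC', Subgroup.mem_subgroupOf] at hx ⊢
    push_cast
    exact conj_mem_centralizer n.2 hx⟩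
  have hconj : ∀ n : ↥N, IsSig σ (⟨(n : G) * v * (n : G)⁻¹, conj_mem_centralizer n.2 hv⟩ : ↥C) := by
    intro n r hr hd
    rw [← Subgroup.orderOf_coe] at hd
    exact isSig_conj (n : G) hvs r hr hd
  set f : ↥N → Cl σ ↥C := fun n =>
    clMk (⟨(n : G) * v * (n : G)⁻¹, conj_mem_centralizer n.2 hv⟩ : ↥C) (hconj n) with hf
  have key : ∀ n m : ↥N, f n = f m → n⁻¹ * m ∈ C' ⊔ M' := by
    intro n m h
    obtain ⟨c, hc⟩ := isConj_iff.1 (ConjClasses.mk_eq_mk_iff_isConj.1 (congrArg Subtype.val h))
    have hc' : (c : G) * ((n : G) * v * (n : G)⁻¹) * (c : G)⁻¹ = (m : G) * v * (m : G)⁻¹ :=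
      congrArg Subtype.val hc
    set c₀ : ↥N := ⟨(c : G), centralizer_le_normalizer _ c.2⟩ with hc₀
    have h1 : n⁻¹ * c₀ * n ∈ C' := by
      have := (inferInstance : C'.Normal).conj_mem c₀
        (by rw [hC', Subgroup.mem_subgroupOf]; exact c.2) n⁻¹
      simpa using this
    have h2 : n⁻¹ * c₀⁻¹ * m ∈ M' := by
      rw [hM', Subgroup.mem_subgroupOf, hL, Subgroup.mem_centralizer_singleton_iff]
      push_cast
      calc (n : G)⁻¹ * (c : G)⁻¹ * (m : G) * v
          = (n : G)⁻¹ * (c : G)⁻¹ * ((m : G) * v * (m : G)⁻¹) * (m : G) := by group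
        _ = (n : G)⁻¹ * (c : G)⁻¹ * ((c : G) * ((n : G) * v * (n : G)⁻¹) * (c : G)⁻¹) * (m : G) := by
            rw [hc']
        _ = v * ((n : G)⁻¹ * (c : G)⁻¹ * (m : G)) := by group
    have h3 := (C' ⊔ M').mul_mem (Subgroup.mem_sup_left h1) (Subgroup.mem_sup_right h2)
    convert h3 using 1
    group
  have hindex : (C' ⊔ M').index ≤ Nat.card {d : Cl σ ↥C // ConjClasses.mk (d.1.out : G) = ConjClasses.mk v} := by
    rw [Subgroup.index_eq_card]
    refine Nat.card_le_card_of_injective (fun x => ⟨f x.out, ?_⟩) ?_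
    · obtain ⟨c, hc⟩ := isConj_iff.1 (ConjClasses.mk_eq_mk_iff_isConj.1
        (Quotient.out_eq (f x.out).1 : ConjClasses.mk (f x.out).1.out = (f x.out).1))
      have hc' : (c : G) * ((f x.out).1.out : G) * (c : G)⁻¹ = (x.out : G) * v * (x.out : G)⁻¹ :=
        congrArg Subtype.val hc
      rw [← ManyClasses.mk_conj (c : G), hc', ManyClasses.mk_conj]
    · intro x y h
      have := key _ _ (congrArg Subtype.val h)
      rw [← QuotientGroup.eq, QuotientGroup.out_eq', QuotientGroup.out_eq'] at this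
      exact this
  have hcards : Nat.card ↥(C' ⊔ M') * Nat.card ↥(C ⊓ L) = Nat.card ↥C * Nat.card ↥(N ⊓ L) := by
    have e1 : Nat.card C' = Nat.card ↥C :=
      Nat.card_congr (Subgroup.subgroupOfEquivOfLe (centralizer_le_normalizer _)).toEquiv
    have e2 : Nat.card M' = Nat.card ↥(N ⊓ L) :=
      Nat.card_congr
        { toFun := fun m => ⟨((m : ↥N) : G), (m : ↥N).2, m.2⟩
          invFun := fun x => ⟨⟨x, x.2.1⟩, x.2.2⟩
          left_inv := fun _ => rfl
          right_inv := fun _ => rfl }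
    have e3 : Nat.card ↥(C' ⊓ M') = Nat.card ↥(C ⊓ L) :=
      Nat.card_congr
        { toFun := fun m => ⟨((m : ↥N) : G), m.2.1, m.2.2⟩
          invFun := fun x => ⟨⟨x, centralizer_le_normalizer _ x.2.1⟩, x.2.1, x.2.2⟩
          left_inv := fun _ => rfl
          right_inv := fun _ => rfl }
    rw [← e1, ← e2, ← e3]
    have h1 := Subgroup.relIndex_mul_relIndex ⊥ C' (C' ⊔ M') bot_le le_sup_left
    have h2 := Subgroup.relIndex_mul_relIndex ⊥ (C' ⊓ M') M' bot_le inf_le_right
    rw [Subgroup.relIndex_bot_left, Subgroup.relIndex_bot_left] at h1 h2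
    rw [← h1, ← h2, Subgroup.inf_relIndex_right, sup_comm, Subgroup.relIndex_sup_right]
    ring
  calc Nat.card ↥N * Nat.card ↥(C ⊓ L) = (C' ⊔ M').index * (Nat.card ↥(C' ⊔ M') * Nat.card ↥(C ⊓ L)) := by
        rw [← mul_assoc, mul_comm (C' ⊔ M').index, Subgroup.card_mul_index]
    _ = (C' ⊔ M').index * (Nat.card ↥C * Nat.card ↥(N ⊓ L)) := by rw [hcards]
    _ ≤ _ := Nat.mul_le_mul_right _ hindex
    _ = _ := by ring

/-- The main inequality. -/
theorem main_bound (Q : Sylow q G) (σ : Finset ℕ) :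
    q * Nat.card ↥(Subgroup.normalizer ((Q : Subgroup G) : Set G)) * ManyClasses.kpi (insert q σ) G ≤
      Nat.card ↥(Q : Subgroup G) *
        (Nat.card ↥(Subgroup.normalizer ((Q : Subgroup G) : Set G)) * ManyClasses.kpi σ G +
          (q - 1) * Nat.card ↥(Subgroup.centralizer ((Q : Subgroup G) : Set G)) *
            ManyClasses.kpi σ ↥(Subgroup.centralizer ((Q : Subgroup G) : Set G))) := by
  classical
  set N := Subgroup.normalizer ((Q : Subgroup G) : Set G) with hN
  set C := Subgroup.centralizer ((Q : Subgroup G) : Set G) with hC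
  haveI := Fintype.ofFinite (Cl σ G)
  haveI := Fintype.ofFinite (Cl σ ↥C)
  set t : Cl σ G → ℕ := fun c => Nat.card {d : Cl σ ↥C // ConjClasses.mk (d.1.out : G) = c.1} with ht
  have htsum : ∑ c : Cl σ G, t c ≤ ManyClasses.kpi σ ↥C := by
    rw [kpi_eq, ← Nat.card_sigma]
    exact Nat.card_le_card_of_injective (fun cd => cd.2.1) fun a b h => by
      obtain ⟨c, d⟩ := a
      obtain ⟨c', d'⟩ := b
      simp only at h
      have : c = c' := Subtype.ext (by rw [← d.2, ← d'.2, h])
      subst this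
      exact congrArg _ (Subtype.ext h)
  have hper : ∀ c : Cl σ G, q * Nat.card ↥N * ManyClasses.kp q ↥(Subgroup.centralizer ({c.1.out} : Set G)) ≤
      Nat.card ↥(Q : Subgroup G) * (Nat.card ↥N + (q - 1) * Nat.card ↥C * t c) := by
    intro c
    set v := c.1.out with hv0
    by_cases hgood : q ∣ (Subgroup.centralizer ({v} : Set G)).index
    · set L := Subgroup.centralizer ({v} : Set G)
      obtain ⟨S⟩ : Nonempty (Sylow q L) := inferInstance
      have h1 := ManyClasses.kp_le_card S
      have h2 : q * Nat.card ↥(S : Subgroup L) ≤ Nat.card ↥(Q : Subgroup G) := by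
        rw [S.card_eq_multiplicity, Q.card_eq_multiplicity, ← Subgroup.card_mul_index L,
          Nat.factorization_mul Nat.card_pos.ne' L.index_ne_zero_of_finite, Finsupp.add_apply, pow_add,
          mul_comm q]
        exact Nat.mul_le_mul_left _ (Nat.le_self_pow
          (hq.out.factorization_pos_of_dvd L.index_ne_zero_of_finite hgood).ne' q)
      calc q * Nat.card ↥N * ManyClasses.kp q ↥L
          ≤ q * Nat.card ↥N * Nat.card ↥(S : Subgroup L) := Nat.mul_le_mul_left _ h1
        _ = Nat.card ↥N * (q * Nat.card ↥(S : Subgroup L)) := by ring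
        _ ≤ Nat.card ↥N * Nat.card ↥(Q : Subgroup G) := Nat.mul_le_mul_left _ h2
        _ ≤ _ := by
          rw [Nat.mul_comm]
          exact Nat.mul_le_mul_left _ (Nat.le_add_right _ _)
    · obtain ⟨g, hg⟩ := exists_conj_mem_centralizer Q hgood
      set w := g * v * g⁻¹ with hw
      have hws : IsSig σ w := isSig_conj g (sig_out c)
      have h1 := class_bound Q hg
      have h2 := fibre_orbit Q hg hws
      have hkp : ManyClasses.kp q ↥(Subgroup.centralizer ({v} : Set G)) =
          ManyClasses.kp q ↥(Subgroup.centralizer ({w} : Set G)) := by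
        have e : ↥(Subgroup.centralizer ({v} : Set G)) ≃* ↥(Subgroup.centralizer ({w} : Set G)) :=
          ((MulAut.conj g).subgroupMap _).trans (MulEquiv.subgroupCongr (by
            ext x
            erw [Subgroup.mem_map_equiv]
            rw [Subgroup.mem_centralizer_singleton_iff,
              Subgroup.mem_centralizer_singleton_iff, MulAut.conj_symm_apply, hw]
            constructor
            · intro h
              calc x * (g * v * g⁻¹) = g * ((g⁻¹ * x * g) * v) * g⁻¹ := by group
                _ = g * (v * (g⁻¹ * x * g)) * g⁻¹ := by rw [h]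
                _ = g * v * g⁻¹ * x := by group
            · intro h
              calc g⁻¹ * x * g * v = g⁻¹ * (x * (g * v * g⁻¹)) * g := by group
                _ = g⁻¹ * ((g * v * g⁻¹) * x) * g := by rw [h]
                _ = v * (g⁻¹ * x * g) := by group))
        exact kp_congr e
      have hmk : ConjClasses.mk w = c.1 := by
        rw [hw, ManyClasses.mk_conj]
        exact Quotient.out_eq c.1
      rw [hmk] at h2
      rw [hkp]
      refine Nat.le_of_mul_le_mul_right (c := Nat.card ↥(N ⊓ Subgroup.centralizer ({w} : Set G))) ?_ Nat.card_pos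
      calc q * Nat.card ↥N * ManyClasses.kp q ↥(Subgroup.centralizer ({w} : Set G)) *
              Nat.card ↥(N ⊓ Subgroup.centralizer ({w} : Set G))
          = Nat.card ↥N * (q * Nat.card ↥(N ⊓ Subgroup.centralizer ({w} : Set G)) *
              ManyClasses.kp q ↥(Subgroup.centralizer ({w} : Set G))) := by ring
        _ ≤ Nat.card ↥N * (Nat.card ↥(Q : Subgroup G) *
              (Nat.card ↥(N ⊓ Subgroup.centralizer ({w} : Set G)) +
                (q - 1) * Nat.card ↥(C ⊓ Subgroup.centralizer ({w} : Set G)))) := Nat.mul_le_mul_left _ h1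
        _ = Nat.card ↥(Q : Subgroup G) * (Nat.card ↥N * Nat.card ↥(N ⊓ Subgroup.centralizer ({w} : Set G)) +
              (q - 1) * (Nat.card ↥N * Nat.card ↥(C ⊓ Subgroup.centralizer ({w} : Set G)))) := by ring
        _ ≤ Nat.card ↥(Q : Subgroup G) * (Nat.card ↥N * Nat.card ↥(N ⊓ Subgroup.centralizer ({w} : Set G)) +
              (q - 1) * (t c * Nat.card ↥C * Nat.card ↥(N ⊓ Subgroup.centralizer ({w} : Set G)))) :=
            Nat.mul_le_mul_left _ (Nat.add_le_add_left (Nat.mul_le_mul_left _ h2) _)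
        _ = _ := by ring
  calc q * Nat.card ↥N * ManyClasses.kpi (insert q σ) G
      ≤ q * Nat.card ↥N * ∑ c : Cl σ G, ManyClasses.kp q ↥(Subgroup.centralizer ({c.1.out} : Set G)) :=
        Nat.mul_le_mul_left _ (decomposition σ)
    _ ≤ ∑ c : Cl σ G, Nat.card ↥(Q : Subgroup G) * (Nat.card ↥N + (q - 1) * Nat.card ↥C * t c) := by
        rw [Finset.mul_sum]; exact Finset.sum_le_sum fun c _ => hper c
    _ = Nat.card ↥(Q : Subgroup G) * (Nat.card ↥N * ManyClasses.kpi σ G +
          (q - 1) * Nat.card ↥C * ∑ c : Cl σ G, t c) := by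
        rw [← Finset.mul_sum, Finset.sum_add_distrib, Finset.sum_const, Finset.card_univ, smul_eq_mul,
          ← Nat.card_eq_fintype_card, ← Finset.mul_sum, kpi_eq, mul_comm (Nat.card (Cl σ G))]
    _ ≤ _ := Nat.mul_le_mul_left _ (Nat.add_le_add_left (Nat.mul_le_mul_left _ htsum) _)
where
  kp_congr {A B : Type u} [Group A] [Group B] (e : A ≃* B) : ManyClasses.kp q A = ManyClasses.kp q B := by
    refine Nat.card_congr (Equiv.subtypeEquiv
      { toFun := ConjClasses.map e.toMonoidHom
        invFun := ConjClasses.map e.symm.toMonoidHom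
        left_inv := fun c => by
          obtain ⟨x, rfl⟩ := ConjClasses.exists_rep c
          exact congrArg ConjClasses.mk (e.symm_apply_apply x)
        right_inv := fun c => by
          obtain ⟨x, rfl⟩ := ConjClasses.exists_rep c
          exact congrArg ConjClasses.mk (e.apply_symm_apply x) } fun c => ?_)
    obtain ⟨x, rfl⟩ := ConjClasses.exists_rep c
    show _ ↔ ∀ z ∈ (ConjClasses.mk (e x)).carrier, _
    rw [ManyClasses.forall_mk_carrier (q := fun n => ∃ k : ℕ, n = q ^ k) (x := x),
      ManyClasses.forall_mk_carrier (q := fun n => ∃ k : ℕ, n = q ^ k) (x := e x), MulEquiv.orderOf_eq]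

end Cfsg.Agent.PiClasses
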