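/-
A `p`-group with more than `|P|/p` classes has derived subgroup of order at most `p`.
-/
import Mathlib
import Cfsg.Agent.Lib.Char.Integral

set_option autoImplicit false
set_option linter.style.haveILetI false

namespace Cfsg.Agent.PiClasses

open Cfsg.Agent

theorem card_commutator_le_of_classes {P : Type*} [Group P] [Finite P] {p : ℕ} [hp : Fact p.Prime]
    (hP : IsPGroup p P) (h : Nat.card P < p * Nat.card (ConjClasses P)) :
    Nat.card (commutator P) ≤ p := by
  classical
  by_contra hlt
  push Not at hlt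
  haveI := Fintype.ofFinite P
  have hp2 := hp.out.two_le
  obtain ⟨a, ha⟩ := IsPGroup.iff_card.1 (hP.to_subgroup (commutator P))
  have hcomm : p ^ 2 ≤ Nat.card (commutator P) := by
    rw [ha] at hlt ⊢
    refine Nat.pow_le_pow_right hp.out.pos ?_
    by_contra hlt'
    interval_cases a <;> simp at hlt <;> omega
  have hL : p ^ 2 * (commutator P).index ≤ Nat.card P := by
    rw [← (commutator P).card_mul_index]
    exact Nat.mul_le_mul_right _ hcomm
  haveI : Fintype (Cfsg.IrrCharacter P) := Fintype.ofFinite _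
  choose d hd0 hd using fun χ : Cfsg.IrrCharacter P => Char.IsIrrCharacter.exists_degree χ.2
  have hsum : ∑ χ : Cfsg.IrrCharacter P, d χ ^ 2 = Nat.card P := by
    have h1 := Char.sum_sq_degree (G := P)
    simp only [hd] at h1
    have h2 : ((∑ χ : Cfsg.IrrCharacter P, d χ ^ 2 : ℕ) : ℂ) = (Nat.card P : ℂ) := by
      push_cast
      convert h1
    exact_mod_cast h2
  have hlin : ((Finset.univ : Finset (Cfsg.IrrCharacter P)).filter fun χ => d χ = 1).card
      = (commutator P).index := by
    rw [← Fintype.card_subtype, ← Nat.card_eq_fintype_card, ← Char.card_linear]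
    refine Nat.card_congr (Equiv.subtypeEquivRight fun χ => ?_)
    rw [hd χ]
    exact_mod_cast Iff.rfl
  have hbig : ∀ χ : Cfsg.IrrCharacter P, d χ ≠ 1 → p ^ 2 ≤ d χ ^ 2 := by
    intro χ hχ
    refine Nat.pow_le_pow_left ?_ 2
    obtain ⟨n, hn⟩ := IsPGroup.iff_card.1 hP
    have hdvd : d χ ∣ p ^ n := hn ▸ Char.degree_dvd_card χ.2 (hd χ)
    obtain ⟨j, -, hj⟩ := (Nat.dvd_prime_pow hp.out).1 hdvd
    rw [hj] at hχ ⊢
    exact Nat.le_self_pow (fun h0 => hχ (by rw [h0, pow_zero])) p
  have hk : Nat.card (ConjClasses P) = (commutator P).index +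
      ((Finset.univ : Finset (Cfsg.IrrCharacter P)).filter fun χ => ¬ d χ = 1).card := by
    rw [← hlin, Finset.card_filter_add_card_filter_not, Finset.card_univ,
      ← Nat.card_eq_fintype_card, Char.card_irrCharacter]
  have hN : p ^ 2 * ((Finset.univ : Finset (Cfsg.IrrCharacter P)).filter fun χ => ¬ d χ = 1).card
      + (commutator P).index ≤ Nat.card P := by
    rw [← hsum, ← Finset.sum_filter_add_sum_filter_not Finset.univ (fun χ => d χ = 1)
      (fun χ => d χ ^ 2), add_comm]
    refine Nat.add_le_add (le_of_eq ?_) ?_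
    · rw [← hlin, Finset.card_eq_sum_ones]
      exact Finset.sum_congr rfl fun χ hχ => by rw [(Finset.mem_filter.1 hχ).2, one_pow]
    · rw [mul_comm, ← smul_eq_mul, ← Finset.sum_const]
      exact Finset.sum_le_sum fun χ hχ => hbig χ (Finset.mem_filter.1 hχ).2
  rw [hk] at h
  set L := (commutator P).index
  set M := ((Finset.univ : Finset (Cfsg.IrrCharacter P)).filter fun χ => ¬ d χ = 1).card
  have h3 : p ^ 2 * (L + M) < 2 * Nat.card P + 1 := by nlinarith
  have h4 : p * Nat.card P + p ≤ p ^ 2 * (L + M) := by nlinarith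
  nlinarith

end Cfsg.Agent.PiClasses
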