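/-
The case in which the normalizer of the abelian Sylow `q`-subgroup centralizes it.
-/
import Mathlib
import Cfsg.Agent.Lib.PiClasses.Bound

set_option autoImplicit false
set_option linter.style.haveILetI false

namespace Cfsg.Agent.PiClasses

open Cfsg.Agent.PBasic
open Cfsg.Agent

universe u

variable {G : Type u} [Group G] [Finite G] {q : ℕ} [hq : Fact q.Prime]

theorem coprime_mem_ker (Q : Sylow q G)
    (hN : Subgroup.normalizer ((Q : Subgroup G) : Set G) ≤ Subgroup.centralizer ((Q : Subgroup G) : Set G))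
    {x : G} (hx : ¬ q ∣ orderOf x) : x ∈ (MonoidHom.transferSylow Q hN).ker := by
  rw [MonoidHom.mem_ker, ← orderOf_eq_one_iff]
  obtain ⟨k, hk⟩ := IsPGroup.iff_orderOf.1 Q.isPGroup' (MonoidHom.transferSylow Q hN x)
  have h1 := orderOf_map_dvd (MonoidHom.transferSylow Q hN) x
  rw [hk] at h1 ⊢
  rcases Nat.eq_zero_or_pos k with rfl | h
  · rfl
  · exact absurd ((dvd_pow_self q h.ne').trans h1) hx

/-- With a normal `q`-complement, `Q` normalizes a full Sylow `r`-subgroup of any overgroup above a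
given invariant `r`-subgroup. -/
theorem exists_invariant_sylow (Q : Sylow q G)
    (hN : Subgroup.normalizer ((Q : Subgroup G) : Set G) ≤ Subgroup.centralizer ((Q : Subgroup G) : Set G))
    {r : ℕ} [hr : Fact r.Prime] (hrq : r ≠ q) {L D : Subgroup G} (hQL : (Q : Subgroup G) ≤ L)
    (hDL : D ≤ L) (hD : IsPGroup r D) (hQD : (Q : Subgroup G) ≤ Subgroup.normalizer (D : Set G)) :
    ∃ R : Subgroup G, D ≤ R ∧ R ≤ L ∧ IsPGroup r R ∧ (Q : Subgroup G) ≤ Subgroup.normalizer (R : Set G) ∧
      Nat.card R = r ^ (Nat.card L).factorization r := by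
  classical
  set P : Set (Subgroup G) :=
    {R | R ≤ L ∧ IsPGroup r R ∧ D ≤ R ∧ (Q : Subgroup G) ≤ Subgroup.normalizer (R : Set G)} with hP
  obtain ⟨R, hRm⟩ := (Set.toFinite P).exists_maximal (⟨D, hDL, hD, le_rfl, hQD⟩ : P.Nonempty)
  obtain ⟨hRL, hR, hDR, hQR⟩ := hRm.prop
  refine ⟨R, hDR, hRL, hR, hQR, ?_⟩
  set M := L ⊓ Subgroup.normalizer (R : Set G) with hM
  have hQM : (Q : Subgroup G) ≤ M := le_inf hQL hQR
  have hRM : R ≤ M := le_inf hRL Subgroup.le_normalizer
  set K := (MonoidHom.transferSylow Q hN).ker with hK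
  set KM := K.subgroupOf M with hKM
  haveI : KM.Normal := by rw [hKM]; infer_instance
  have hKMq : ¬ q ∣ Nat.card KM := fun h =>
    MonoidHom.not_dvd_card_ker_transferSylow Q hN
      (h.trans (by rw [← Subgroup.card_map_of_injective M.subtype_injective, hKM, Subgroup.subgroupOf_map_subtype]; exact Subgroup.card_dvd_of_le inf_le_left))
  -- Sylow `r`-subgroups of `M` have number prime to `q`
  have hnr : ¬ q ∣ Nat.card (Sylow r M) := by
    obtain ⟨S⟩ : Nonempty (Sylow r M) := inferInstance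
    have hSK : (S : Subgroup M) ≤ KM := by
      intro x hx
      rw [hKM, Subgroup.mem_subgroupOf]
      refine coprime_mem_ker Q hN fun h => ?_
      obtain ⟨k, hk⟩ := IsPGroup.iff_orderOf.1 S.isPGroup' ⟨x, hx⟩
      rw [Subgroup.orderOf_mk, ← Subgroup.orderOf_coe] at hk
      rw [hk] at h
      exact hrq ((Nat.prime_dvd_prime_iff_eq hq.out hr.out).1 (hq.out.dvd_of_dvd_pow h)).symm
    have hsup := Sylow.normalizer_sup_eq_top' S hSK
    rw [S.card_eq_index_normalizer]
    intro hdvd
    refine hKMq (hdvd.trans ?_)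
    set NS := Subgroup.normalizer (S : Set M) with hNS
    have h1 := Subgroup.card_mul_index NS
    have h2 : Nat.card NS * KM.relIndex NS = Nat.card NS * KM.relIndex NS := rfl
    have h3 : KM.relIndex NS = KM.index := by
      rw [← Subgroup.relIndex_top_right KM, ← hsup, Subgroup.relIndex_sup_right]
    have h4 := Subgroup.relIndex_mul_relIndex ⊥ (KM ⊓ NS) NS bot_le inf_le_right
    rw [Subgroup.relIndex_bot_left, Subgroup.relIndex_bot_left, Subgroup.inf_relIndex_right, h3] at h4
    have h5 := Subgroup.card_mul_index KM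
    rw [← h1, ← h4] at h5
    obtain ⟨e, he⟩ : Nat.card ↥(KM ⊓ NS) ∣ Nat.card KM := Subgroup.card_dvd_of_le inf_le_left
    refine ⟨Nat.card ↥(KM ⊓ NS), ?_⟩
    have hne : 0 < KM.index := Nat.pos_of_ne_zero Subgroup.index_ne_zero_of_finite
    refine Nat.eq_of_mul_eq_mul_right hne ?_
    rw [h5]; ring
  obtain ⟨S, hS⟩ := (Q.isPGroup'.to_le le_rfl |>.comap_of_injective M.subtype
    M.subtype_injective).nonempty_fixed_point_of_prime_not_dvd_card (Sylow r M) hnr
  have hQS : (Q : Subgroup G) ≤ Subgroup.normalizer (((S : Subgroup M).map M.subtype) : Set G) := by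
    intro a ha
    have h1 := hS ⟨⟨a, hQM ha⟩, ha⟩
    have h2 : (⟨a, hQM ha⟩ : M) ∈ Subgroup.normalizer ((S : Subgroup M) : Set M) :=
      Sylow.smul_eq_iff_mem_normalizer.1 h1
    exact (Subgroup.le_normalizer_map M.subtype) ⟨_, h2, rfl⟩
  have hRS : R ≤ (S : Subgroup M).map M.subtype := by
    haveI : (R.subgroupOf M).Normal := Subgroup.normal_subgroupOf_iff_le_normalizer hRM |>.2 inf_le_right
    have hR' : IsPGroup r (R.subgroupOf M) := hR.comap_of_injective M.subtype M.subtype_injective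
    obtain ⟨S', hS'⟩ := hR'.exists_le_sylow
    obtain ⟨g, hg⟩ := MulAction.exists_smul_eq M S' S
    have : R.subgroupOf M ≤ (S : Subgroup M) := by
      rw [← hg, Sylow.coe_subgroup_smul]
      intro x hx
      rw [Subgroup.mem_pointwise_smul_iff_inv_smul_mem, MulAut.smul_def]
      exact hS' (by simpa [mul_assoc] using (inferInstance : (R.subgroupOf M).Normal).conj_mem x hx g⁻¹)
    intro x hx
    exact ⟨⟨x, hRM hx⟩, this hx, rfl⟩
  have hSR : (S : Subgroup M).map M.subtype ≤ R :=
    hRm.2 ⟨(Subgroup.map_subtype_le _).trans inf_le_left, S.isPGroup'.map _, hDR.trans hRS, hQS⟩ hRS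
  have hcardR : Nat.card R = r ^ (Nat.card M).factorization r := by
    rw [le_antisymm hRS hSR, Subgroup.card_map_of_injective M.subtype_injective, S.card_eq_multiplicity]
  -- a subgroup Sylow in its normalizer is Sylow
  obtain ⟨n, hn⟩ := IsPGroup.iff_card.1 hR
  have hdR : Nat.card R ∣ Nat.card L := Subgroup.card_dvd_of_le hRL
  refine le_antisymm (Nat.le_of_dvd (pow_pos hr.out.pos _) ?_) ?_
  · rw [hn] at hdR ⊢
    exact pow_dvd_pow r ((hr.out.pow_dvd_iff_le_factorization Nat.card_pos.ne').1 hdR)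
  · rw [hn]
    refine Nat.pow_le_pow_right hr.out.pos ?_
    by_contra hlt
    push Not at hlt
    have h1 : r ^ (n + 1) ∣ Nat.card L :=
      (hr.out.pow_dvd_iff_le_factorization Nat.card_pos.ne').2 hlt
    have hRc : Nat.card ↥(R.subgroupOf L) = r ^ n := by
      rw [Nat.card_congr (Subgroup.subgroupOfEquivOfLe hRL).toEquiv, hn]
    have h2 := Sylow.prime_pow_dvd_card_normalizer h1 hRc
    have h3 : Nat.card ↥(Subgroup.normalizer ((R.subgroupOf L : Subgroup L) : Set L)) = Nat.card M := by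
      suffices hmap : (Subgroup.normalizer ((R.subgroupOf L : Subgroup L) : Set L)).map L.subtype = M by
        rw [← hmap, Subgroup.card_map_of_injective L.subtype_injective]
      ext x
      constructor
      · rintro ⟨y, hy, rfl⟩
        refine ⟨y.2, ?_⟩
        have := Subgroup.le_normalizer_map L.subtype ⟨y, hy, rfl⟩
        rwa [Subgroup.subgroupOf_map_subtype, inf_eq_left.2 hRL] at this
      · rintro ⟨hxL, hxN⟩
        refine ⟨⟨x, hxL⟩, ?_, rfl⟩
        rw [SetLike.mem_coe, Subgroup.mem_normalizer_iff]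
        intro y
        exact Subgroup.mem_normalizer_iff.1 hxN y
    rw [h3] at h2
    have h4 := (hr.out.pow_dvd_iff_le_factorization Nat.card_pos.ne').1 h2
    rw [hn] at hcardR
    have := Nat.pow_right_injective hr.out.two_le hcardR
    omega

/-- If `C(Q)` has the full `r`-part then `Q` centralizes a Sylow `r`-subgroup of every overgroup. -/
theorem exists_centralized_sylow (Q : Sylow q G)
    (hN : Subgroup.normalizer ((Q : Subgroup G) : Set G) ≤ Subgroup.centralizer ((Q : Subgroup G) : Set G))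
    {r : ℕ} [hr : Fact r.Prime] (hrq : r ≠ q)
    (hfull : (Nat.card ↥(Subgroup.centralizer ((Q : Subgroup G) : Set G))).factorization r =
      (Nat.card G).factorization r) {L : Subgroup G} (hQL : (Q : Subgroup G) ≤ L) :
    ∃ S : Subgroup G, S ≤ L ∧ IsPGroup r S ∧ S ≤ Subgroup.centralizer ((Q : Subgroup G) : Set G) ∧
      Nat.card S = r ^ (Nat.card L).factorization r := by
  classical
  set C := Subgroup.centralizer ((Q : Subgroup G) : Set G) with hC
  have hbot : (Q : Subgroup G) ≤ Subgroup.normalizer ((⊥ : Subgroup G) : Set G) := by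
    rw [Subgroup.normalizer_eq_top]; exact le_top
  obtain ⟨S, -, hSL, hS, hQS, hSc⟩ := exists_invariant_sylow Q hN hrq hQL bot_le IsPGroup.of_bot hbot
  obtain ⟨R, hSR, -, hR, hQR, hRc⟩ := exists_invariant_sylow Q hN hrq (le_top : (Q : Subgroup G) ≤ ⊤)
    le_top hS hQS
  refine ⟨S, hSL, hS, hSR.trans ?_, hSc⟩
  rw [Subgroup.card_top] at hRc
  -- a Sylow subgroup inside `C`
  obtain ⟨R₀⟩ : Nonempty (Sylow r C) := inferInstance
  obtain ⟨P₀, hP₀⟩ := (R₀.isPGroup'.map C.subtype).exists_le_sylow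
  have hP₀C : (P₀ : Subgroup G) ≤ C := by
    rw [← Subgroup.eq_of_le_of_card_ge hP₀ (by
      rw [Subgroup.card_map_of_injective C.subtype_injective, R₀.card_eq_multiplicity,
        P₀.card_eq_multiplicity, hfull])]
    exact Subgroup.map_subtype_le _
  let PR : Sylow r G := Sylow.ofCard R hRc
  obtain ⟨g, hg⟩ := MulAction.exists_smul_eq G P₀ PR
  set NR := Subgroup.normalizer (R : Set G) with hNR
  -- two Sylow `q`-subgroups of the normalizer
  have hQ' : ((g • Q : Sylow q G) : Subgroup G) ≤ NR := by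
    intro y hy
    rw [Sylow.coe_subgroup_smul, Subgroup.mem_pointwise_smul_iff_inv_smul_mem, MulAut.smul_def] at hy
    rw [hNR, Subgroup.mem_normalizer_iff]
    have hcR : ∀ z : G, z ∈ R → y * z * y⁻¹ = z := by
      intro z hz
      have hz' : z ∈ ((g • P₀ : Sylow r G) : Subgroup G) := by rw [hg]; exact hz
      rw [Sylow.coe_subgroup_smul, Subgroup.mem_pointwise_smul_iff_inv_smul_mem,
        MulAut.smul_def] at hz'
      have h1 := Subgroup.mem_centralizer_iff.1 (hP₀C hz') _ hy
      have h2 := congrArg (MulAut.conj g) h1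
      simp only [MulAut.conj_inv_apply, MulAut.conj_apply] at h2
      calc y * z * y⁻¹ = g * ((g⁻¹ * y * g) * (g⁻¹ * z * g)) * g⁻¹ * y⁻¹ := by group
        _ = g * ((g⁻¹ * z * g) * (g⁻¹ * y * g)) * g⁻¹ * y⁻¹ := by rw [h2]
        _ = z := by group
    intro z
    refine ⟨fun hz => by rwa [hcR z hz], fun hz => ?_⟩
    have := hcR _ hz
    have h3 : y * z * y⁻¹ = z := (MulAut.conj y).injective this
    rwa [h3] at hz
  obtain ⟨n, hn⟩ := MulAction.exists_smul_eq NR ((g • Q).subtype hQ') (Q.subtype hQR)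
  have hn' : ((n : G) * g) • Q = Q := by
    rw [mul_smul]
    rw [Sylow.smul_subtype hQ'] at hn
    exact Sylow.subtype_injective hn
  have hng : (n : G) * g ∈ C := hN (Sylow.smul_eq_iff_mem_normalizer.1 hn')
  intro z hz
  have h1 : (n : G)⁻¹ * z * n ∈ R := (Subgroup.mem_normalizer_iff.1 n.2 _).2 (by simpa [mul_assoc] using hz)
  have h2 : (n : G)⁻¹ * z * n ∈ ((g • P₀ : Sylow r G) : Subgroup G) := by rw [hg]; exact h1
  rw [Sylow.coe_subgroup_smul, Subgroup.mem_pointwise_smul_iff_inv_smul_mem,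
    MulAut.smul_def] at h2
  have h3 := C.mul_mem (C.mul_mem hng (hP₀C h2)) (C.inv_mem hng)
  have e : (n : G) * g * ((MulAut.conj g)⁻¹ ((n : G)⁻¹ * z * n)) * ((n : G) * g)⁻¹ = z := by
    simp only [MulAut.conj_inv_apply]
    group
  rw [← e]
  exact h3

/-- When all parts are full, every `σ`-element is conjugate into `C(Q)`. -/
theorem forall_conj_mem (Q : Sylow q G)
    (hN : Subgroup.normalizer ((Q : Subgroup G) : Set G) ≤ Subgroup.centralizer ((Q : Subgroup G) : Set G))
    {σ : Finset ℕ} (hqσ : q ∉ σ)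
    (hfull : ∀ r ∈ σ, (Nat.card ↥(Subgroup.centralizer ((Q : Subgroup G) : Set G))).factorization r =
      (Nat.card G).factorization r) :
    ∀ v : G, IsSig σ v → ∃ g : G, g * v * g⁻¹ ∈ Subgroup.centralizer ((Q : Subgroup G) : Set G) := by
  intro v
  induction hn : orderOf v using Nat.strong_induction_on generalizing v with
  | _ o ih =>
    intro hv
    rcases eq_or_ne v 1 with rfl | hv1
    · exact ⟨1, by simp⟩
    obtain ⟨r, hr, hrv⟩ := Nat.exists_prime_and_dvd (mt orderOf_eq_one_iff.1 hv1)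
    haveI := Fact.mk hr
    have hrσ : r ∈ σ := hv r hr hrv
    obtain ⟨a, w, haw, ha, hw, hk, hcop⟩ := exists_pPart_mul (p := r) v
    have hwo : orderOf w < o := by
      rw [← hn]
      refine lt_of_le_of_ne (Nat.le_of_dvd (orderOf_pos v) (orderOf_dvd_of_mem_zpowers hw)) fun h => ?_
      rw [← h] at hrv
      exact hr.ne_one (Nat.eq_one_of_dvd_coprimes hcop hrv dvd_rfl)
    obtain ⟨g, hg⟩ := ih _ hwo w rfl
      (fun s hs hd => hv s hs (hd.trans (orderOf_dvd_of_mem_zpowers hw)))
    set w' := g * w * g⁻¹ with hw'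
    set L := Subgroup.centralizer ({w'} : Set G) with hL
    have hQL : (Q : Subgroup G) ≤ L := fun y hy =>
      Subgroup.mem_centralizer_singleton_iff.2 (Subgroup.mem_centralizer_iff.1 hg y hy)
    obtain ⟨S, hSL, hS, hSC, hSc⟩ := exists_centralized_sylow Q hN
      (fun h => hqσ (h ▸ hrσ)) (hfull r hrσ) hQL
    have hcomm : Commute a w := by
      obtain ⟨i, rfl⟩ := ha
      obtain ⟨j, rfl⟩ := hw
      exact (Commute.refl v).zpow_zpow i j
    have haL : g * a * g⁻¹ ∈ L := by
      rw [hL, Subgroup.mem_centralizer_singleton_iff, hw']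
      exact hcomm.map (MulAut.conj g).toMonoidHom
    have hSL' : IsPGroup r (S.subgroupOf L) := hS.comap_of_injective L.subtype L.subtype_injective
    let PS : Sylow r L := Sylow.ofCard (S.subgroupOf L) (by
      rw [Nat.card_congr (Subgroup.subgroupOfEquivOfLe hSL).toEquiv, hSc])
    obtain ⟨l, hl⟩ := ManyClasses.exists_conj_mem_sylow PS (x := (⟨_, haL⟩ : L)) (by
      obtain ⟨k, hk⟩ := hk
      exact ⟨k, by rw [Subgroup.orderOf_mk,
        show g * a * g⁻¹ = (MulAut.conj g).toMonoidHom a from rfl,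
        orderOf_injective _ (MulAut.conj g).injective, hk]⟩)
    have hlS : (l : G) * (g * a * g⁻¹) * (l : G)⁻¹ ∈ S := hl
    refine ⟨(l : G) * g, ?_⟩
    have hlw : (l : G) * w' * (l : G)⁻¹ = w' := by
      rw [Subgroup.mem_centralizer_singleton_iff.1 l.2, mul_inv_cancel_right]
    have := (Subgroup.centralizer ((Q : Subgroup G) : Set G)).mul_mem (hSC hlS) hg
    convert this using 1
    rw [← haw]
    conv_rhs => rw [← hlw, hw']
    group

end Cfsg.Agent.PiClasses
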