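/-
One step of the reduction: many classes of `π`-elements force the centralizer of the Sylow subgroup
for the largest prime to have many classes of `π`-elements too.
-/
import Mathlib
import Cfsg.Agent.Lib.PiClasses.Nil
import Cfsg.Agent.S3899

set_option autoImplicit false
set_option linter.style.haveILetI false

namespace Cfsg.Agent.PiClasses

open Cfsg.Agent.PBasic
open Cfsg.Agent

universe u

variable {G : Type u} [Group G] [Finite G]

theorem part_pos {σ : Finset ℕ} (hσ : ∀ r ∈ σ, r.Prime) (n : ℕ) : 0 < ManyClasses.part σ n :=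
  Finset.prod_pos fun r hr => pow_pos (hσ r hr).pos _

theorem part_dvd {σ : Finset ℕ} (hσ : ∀ r ∈ σ, r.Prime) (n : ℕ) : ManyClasses.part σ n ∣ n := by
  induction σ using Finset.induction_on with
  | empty => simp [ManyClasses.part]
  | insert a s ha ih =>
    rw [ManyClasses.part, Finset.prod_insert ha]
    refine Nat.Coprime.mul_dvd_of_dvd_of_dvd ?_ (Nat.ordProj_dvd n a)
      (ih fun r hr => hσ r (Finset.mem_insert_of_mem hr))
    refine Nat.Coprime.prod_right fun r hr => ?_
    exact Nat.Coprime.pow _ _ ((Nat.coprime_primes (hσ a (Finset.mem_insert_self a s))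
      (hσ r (Finset.mem_insert_of_mem hr))).2 fun h => ha (h ▸ hr))

theorem kpi_pos (σ : Finset ℕ) (H : Type u) [Group H] [Finite H] : 0 < ManyClasses.kpi σ H := by
  haveI : Nonempty (Cl σ H) := ⟨clMk 1 fun r hr hd => by
    rw [orderOf_one] at hd
    exact absurd (Nat.eq_one_of_dvd_one hd) hr.ne_one⟩
  rw [kpi_eq]
  exact Nat.card_pos

omit [Finite G] in
/-- A smaller exponent costs a full factor. -/
theorem part_mul_pow_le {σ : Finset ℕ} (hσ : ∀ r ∈ σ, r.Prime) {r : ℕ} (hr : r ∈ σ) {a b e : ℕ}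
    (hab : a ∣ b) (hb : b ≠ 0) (he : a.factorization r + e ≤ b.factorization r) :
    r ^ e * ManyClasses.part σ a ≤ ManyClasses.part σ b := by
  rw [← ManyClasses.part_erase hr a, ← ManyClasses.part_erase hr b, ← mul_assoc, ← pow_add, add_comm]
  exact Nat.mul_le_mul (Nat.pow_le_pow_right (hσ r hr).pos he)
    (ManyClasses.part_le_of_dvd (fun s hs => hσ s (Finset.mem_of_mem_erase hs)) hab hb)

/-- The `π`-elements outnumbering `|G|_π (r² + r - 1) / r³` force abelian Sylow subgroups. -/
theorem sylow_comm_of_many {π : Finset ℕ} (hπ : ∀ s ∈ π, s.Prime) {r : ℕ} [Fact r.Prime] (hr : r ∈ π)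
    (h : ManyClasses.part π (Nat.card G) * (r ^ 2 + r - 1) < r ^ 3 * ManyClasses.kpi π G) (P : Sylow r G) :
    IsMulCommutative ↥(P : Subgroup G) := by
  by_contra hna
  have h1 := ManyClasses.nonabelian_bound P.isPGroup' hna
  have h2 := ManyClasses.kp_le_classes P
  have h3 := ManyClasses.kpi_le_kp_mul (G := G) hπ hr
  refine absurd h (not_lt.2 ?_)
  rw [← ManyClasses.part_erase hr, ← P.card_eq_multiplicity]
  calc r ^ 3 * ManyClasses.kpi π G
      ≤ r ^ 3 * (ManyClasses.kp r G * ManyClasses.part (π.erase r) (Nat.card G)) :=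
        Nat.mul_le_mul_left _ h3
    _ ≤ r ^ 3 * (Nat.card (ConjClasses ↥(P : Subgroup G)) * ManyClasses.part (π.erase r) (Nat.card G)) :=
        Nat.mul_le_mul_left _ (Nat.mul_le_mul_right _ h2)
    _ = r ^ 3 * Nat.card (ConjClasses ↥(P : Subgroup G)) * ManyClasses.part (π.erase r) (Nat.card G) := by
        ring
    _ ≤ (r ^ 2 + r - 1) * Nat.card ↥(P : Subgroup G) * ManyClasses.part (π.erase r) (Nat.card G) :=
        Nat.mul_le_mul_right _ h1
    _ = _ := by ring

variable {q : ℕ} [hq : Fact q.Prime]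

/-- If every `σ`-element is conjugate into a subgroup, that subgroup has at least as many classes. -/
theorem kpi_le_of_conj_mem (σ : Finset ℕ) (C : Subgroup G)
    (h : ∀ v : G, IsSig σ v → ∃ g : G, g * v * g⁻¹ ∈ C) :
    ManyClasses.kpi σ G ≤ ManyClasses.kpi σ ↥C := by
  refine Nat.card_le_card_of_surjective
    (fun d : Cl σ ↥C => clMk (d.1.out : G) fun r hr hd => by
      rw [Subgroup.orderOf_coe] at hd
      exact sig_out d r hr hd) fun c => ?_
  obtain ⟨g, hg⟩ := h c.1.out (sig_out c)
  have hs : IsSig σ (⟨_, hg⟩ : ↥C) := fun r hr hd => by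
    rw [Subgroup.orderOf_mk] at hd
    exact isSig_conj g (sig_out c) r hr hd
  refine ⟨clMk _ hs, Subtype.ext ?_⟩
  obtain ⟨e, he⟩ := isConj_iff.1 (ConjClasses.mk_eq_mk_iff_isConj.1
    (show ConjClasses.mk (⟨_, hg⟩ : ↥C) = ConjClasses.mk (clMk (σ := σ) (⟨_, hg⟩ : ↥C) hs).1.out from
      (Quotient.out_eq _).symm))
  show ConjClasses.mk (((clMk (σ := σ) (⟨_, hg⟩ : ↥C) hs).1.out : ↥C) : G) = c.1
  rw [← he]
  push_cast
  rw [ManyClasses.mk_conj, ManyClasses.mk_conj]
  exact Quotient.out_eq c.1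

/-- The classes outside the centralizer fuse in batches of at least `q`. -/
theorem bad_bound (Q : Sylow q G)
    (hN : Subgroup.normalizer ((Q : Subgroup G) : Set G) ≤ Subgroup.centralizer ((Q : Subgroup G) : Set G))
    {σ : Finset ℕ} (hqσ : q ∉ σ) :
    q * ManyClasses.kpi σ G ≤
      ManyClasses.kpi σ ↥(MonoidHom.transferSylow Q hN).ker +
        (q - 1) * ManyClasses.kpi σ ↥(Subgroup.centralizer ((Q : Subgroup G) : Set G)) := by
  classical
  set C := Subgroup.centralizer ((Q : Subgroup G) : Set G) with hC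
  set K := (MonoidHom.transferSylow Q hN).ker with hK
  haveI hKn : K.Normal := by rw [hK]; infer_instance
  have hKQ : K ⊔ (Q : Subgroup G) = ⊤ := (MonoidHom.ker_transferSylow_isComplement' Q hN).sup_eq_top
  have hQC : (Q : Subgroup G) ≤ C := Subgroup.le_normalizer.trans hN
  have hmemK : ∀ {x : G}, IsSig σ x → x ∈ K := fun hx =>
    coprime_mem_ker Q hN fun h => hqσ (hx q hq.out h)
  -- map down to the classes of `G`
  set f : Cl σ ↥K → Cl σ G := fun d => clMk (d.1.out : G) fun r hr hd => by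
    rw [Subgroup.orderOf_coe] at hd
    exact sig_out d r hr hd with hf
  have hcls : ∀ (x : ↥K) (hx : IsSig σ x),
      ConjClasses.mk ((clMk (σ := σ) x hx).1.out : G) = ConjClasses.mk (x : G) := by
    intro x hx
    obtain ⟨e, he⟩ := isConj_iff.1 (ConjClasses.mk_eq_mk_iff_isConj.1
      (show ConjClasses.mk x = ConjClasses.mk (clMk (σ := σ) x hx).1.out from (Quotient.out_eq _).symm))
    rw [← he]
    push_cast
    rw [ManyClasses.mk_conj]
  have hfsurj : Function.Surjective f := by
    intro c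
    refine ⟨clMk ⟨c.1.out, hmemK (sig_out c)⟩ fun r hr hd => ?_, Subtype.ext ?_⟩
    · rw [Subgroup.orderOf_mk] at hd
      exact sig_out c r hr hd
    · show ConjClasses.mk (((clMk (σ := σ) _ _).1.out : ↥K) : G) = c.1
      exact (hcls _ _).trans (Quotient.out_eq c.1)
  -- the classes meeting the centralizer
  set g : Cl σ ↥C → Cl σ ↥K := fun c =>
    clMk ⟨(c.1.out : G), hmemK fun r hr hd => by
      rw [Subgroup.orderOf_coe] at hd
      exact sig_out c r hr hd⟩ fun r hr hd => by
      rw [Subgroup.orderOf_mk, Subgroup.orderOf_coe] at hd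
      exact sig_out c r hr hd with hg
  set S : Set (Cl σ ↥K) := Set.range g with hS
  have hSmem : ∀ (x : ↥K) (hx : IsSig σ x), (x : G) ∈ C → clMk x hx ∈ S := by
    intro x hx hxC
    have hx' : IsSig σ (⟨_, hxC⟩ : ↥C) := fun r hr hd => by
      rw [Subgroup.orderOf_mk, Subgroup.orderOf_coe] at hd
      exact hx r hr hd
    refine ⟨clMk _ hx', Subtype.ext ?_⟩
    obtain ⟨c, hc⟩ := isConj_iff.1 (ConjClasses.mk_eq_mk_iff_isConj.1
      (show ConjClasses.mk (⟨_, hxC⟩ : ↥C) = ConjClasses.mk (clMk (σ := σ) (⟨_, hxC⟩ : ↥C) hx').1.out from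
        (Quotient.out_eq _).symm))
    obtain ⟨k, hk, y, hy, hky⟩ := Subgroup.mem_sup_of_normal_left.1
      (show (c : G) ∈ K ⊔ (Q : Subgroup G) by rw [hKQ]; exact Subgroup.mem_top _)
    refine (ConjClasses.mk_eq_mk_iff_isConj.2 (isConj_iff.2 ⟨⟨k, hk⟩, Subtype.ext ?_⟩)).symm
    show k * (x : G) * k⁻¹ = (((clMk (σ := σ) (⟨_, hxC⟩ : ↥C) hx').1.out : ↥C) : G)
    rw [← hc]
    push_cast
    rw [← hky]
    have hcy : y * (x : G) = x * y := Subgroup.mem_centralizer_iff.1 hxC y hy
    calc k * (x : G) * k⁻¹ = k * (x * y) * (k * y)⁻¹ := by group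
      _ = k * (y * x) * (k * y)⁻¹ := by rw [hcy]
      _ = k * y * x * (k * y)⁻¹ := by group
  have hSle : Nat.card S ≤ ManyClasses.kpi σ ↥C :=
    Nat.card_le_card_of_surjective _ Set.rangeFactorization_surjective
  have hfib := ManyClasses.fibre_bound f hfsurj S q hq.out.one_lt.le fun d hd => ?_
  · rw [kpi_eq, kpi_eq]
    exact hfib.trans (Nat.add_le_add_left (Nat.mul_le_mul_left _ hSle) _)
  -- a class outside `S` has at least `q` translates
  set v := d.1.out with hv
  set L := Subgroup.centralizer ({(v : G)} : Set G) with hL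
  set T := (L ⊔ K).subgroupOf (Q : Subgroup G) with hT
  have hTne : T ≠ ⊤ := by
    intro hT'
    have htop : L ⊔ K = ⊤ := by
      rw [eq_top_iff, ← hKQ]
      exact sup_le le_sup_right (Subgroup.subgroupOf_eq_top.1 hT')
    have h1 : K.relIndex L = K.index := by
      rw [← Subgroup.relIndex_top_right K, ← htop, Subgroup.relIndex_sup_right]
    have hKc : K.index = Nat.card ↥(Q : Subgroup G) :=
      (MonoidHom.ker_transferSylow_isComplement' Q hN).symm.index_eq_card
    have h2 : Nat.card ↥(Q : Subgroup G) ∣ Nat.card L := by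
      have h4 := Subgroup.relIndex_mul_relIndex ⊥ (K ⊓ L) L bot_le inf_le_right
      rw [Subgroup.relIndex_bot_left, Subgroup.relIndex_bot_left, Subgroup.inf_relIndex_right] at h4
      rw [← hKc, ← h1, ← h4]
      exact dvd_mul_left _ _
    have hgood : ¬ q ∣ L.index := by
      intro h3
      refine Q.not_dvd_index (h3.trans ?_)
      obtain ⟨e, he⟩ := h2
      refine ⟨e, Nat.eq_of_mul_eq_mul_left (Nat.card_pos (α := ↥(Q : Subgroup G))) ?_⟩
      rw [Subgroup.card_mul_index, ← L.card_mul_index, he]; ring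
    obtain ⟨a, ha⟩ := exists_conj_mem_centralizer Q hgood
    obtain ⟨y, hy, k, hk, hyk⟩ := Subgroup.mem_sup_of_normal_right.1
      (show a ∈ (Q : Subgroup G) ⊔ K by rw [sup_comm, hKQ]; exact Subgroup.mem_top _)
    have hy' := hQC hy
    have hkC : k * (v : G) * k⁻¹ ∈ C := by
      have h3 := C.mul_mem (C.mul_mem (C.inv_mem hy') ha) hy'
      convert h3 using 1
      rw [← hyk]
      group
    refine hd ?_
    have hvs : IsSig σ ((⟨k, hk⟩ : ↥K) * v * (⟨k, hk⟩ : ↥K)⁻¹) := isSig_conj _ (sig_out d)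
    have := hSmem _ hvs hkC
    convert this using 1
    refine Subtype.ext ?_
    show d.1 = ConjClasses.mk _
    rw [ManyClasses.mk_conj]
    exact (Quotient.out_eq d.1).symm
  obtain ⟨n, hn⟩ := Q.isPGroup'.index T
  have hn0 : n ≠ 0 := by
    rintro rfl
    rw [pow_zero, Subgroup.index_eq_one] at hn
    exact hTne hn
  refine (Nat.le_self_pow hn0 q).trans ?_
  rw [← hn, Subgroup.index_eq_card]
  have hmemc : ∀ y : ↥(Q : Subgroup G),
      IsSig σ (⟨(y : G) * (v : G) * (y : G)⁻¹, hKn.conj_mem _ v.2 _⟩ : ↥K) := by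
    intro y r hr hd'
    rw [Subgroup.orderOf_mk] at hd'
    refine isSig_conj (y : G) (?_ : IsSig σ (v : G)) r hr hd'
    intro s hs hsd
    rw [Subgroup.orderOf_coe] at hsd
    exact sig_out d s hs hsd
  refine Nat.card_le_card_of_injective
    (fun z : ↥(Q : Subgroup G) ⧸ T => ⟨clMk _ (hmemc z.out), Subtype.ext ?_⟩) ?_
  · show ConjClasses.mk (((clMk (σ := σ) _ (hmemc z.out)).1.out : ↥K) : G) = ConjClasses.mk (v : G)
    rw [hcls]
    exact ManyClasses.mk_conj _ _
  · intro z₁ z₂ h
    have h' : ConjClasses.mk (⟨(z₁.out : G) * (v : G) * (z₁.out : G)⁻¹, hKn.conj_mem _ v.2 _⟩ : ↥K) =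
        ConjClasses.mk (⟨(z₂.out : G) * (v : G) * (z₂.out : G)⁻¹, hKn.conj_mem _ v.2 _⟩ : ↥K) :=
      congrArg (fun x => x.1.1) h
    obtain ⟨k, hk⟩ := isConj_iff.1 (ConjClasses.mk_eq_mk_iff_isConj.1 h')
    have hk' : (k : G) * ((z₁.out : G) * (v : G) * (z₁.out : G)⁻¹) * (k : G)⁻¹ =
        (z₂.out : G) * (v : G) * (z₂.out : G)⁻¹ := congrArg Subtype.val hk
    rw [← QuotientGroup.out_eq' z₁, ← QuotientGroup.out_eq' z₂, QuotientGroup.eq]
    show ((z₁.out⁻¹ * z₂.out : ↥(Q : Subgroup G)) : G) ∈ L ⊔ K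
    push_cast
    set a := (z₁.out : G)
    set b := (z₂.out : G)
    have hl : b⁻¹ * (k : G) * a ∈ L := by
      rw [hL, Subgroup.mem_centralizer_singleton_iff]
      calc b⁻¹ * (k : G) * a * (v : G) = b⁻¹ * ((k : G) * (a * (v : G) * a⁻¹) * (k : G)⁻¹) * ((k : G) * a) := by
            group
        _ = b⁻¹ * (b * (v : G) * b⁻¹) * ((k : G) * a) := by rw [hk']
        _ = (v : G) * (b⁻¹ * (k : G) * a) := by group
    have hkb : b⁻¹ * (k : G) * b ∈ K := by simpa using hKn.conj_mem _ k.2 b⁻¹
    have := (L ⊔ K).mul_mem ((L ⊔ K).inv_mem (Subgroup.mem_sup_left hl)) (Subgroup.mem_sup_right hkb)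
    convert this using 1
    group

/-- The step. -/
theorem step {p : ℕ} (hp : p.Prime) (hpq : p < q) (Q : Sylow q G) {σ : Finset ℕ}
    (hσ : ∀ r ∈ σ, r.Prime) (hqσ : q ∉ σ) (hge : ∀ r ∈ σ, p ≤ r)
    (hk : Nat.card ↥(Q : Subgroup G) * ManyClasses.part σ (Nat.card G) <
      p * ManyClasses.kpi (insert q σ) G) :
    IsMulCommutative ↥(Q : Subgroup G) ∧
      ManyClasses.part σ (Nat.card G) <
        p * ManyClasses.kpi σ ↥(Subgroup.centralizer ((Q : Subgroup G) : Set G)) := by
  classical
  have hπ : ∀ s ∈ insert q σ, s.Prime := fun s hs => by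
    rcases Finset.mem_insert.1 hs with rfl | h
    · exact hq.out
    · exact hσ s h
  have hpart : ManyClasses.part (insert q σ) (Nat.card G) =
      Nat.card ↥(Q : Subgroup G) * ManyClasses.part σ (Nat.card G) := by
    rw [ManyClasses.part, Finset.prod_insert hqσ, Q.card_eq_multiplicity, ManyClasses.part]
  have hab : IsMulCommutative ↥(Q : Subgroup G) := by
    refine sylow_comm_of_many hπ (Finset.mem_insert_self q σ) ?_ Q
    rw [hpart]
    obtain ⟨j, rfl⟩ : ∃ j, q = p + 1 + j := ⟨q - (p + 1), by omega⟩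
    have h1 : ((p + 1 + j) ^ 2 + (p + 1 + j) - 1) * p ≤ (p + 1 + j) ^ 3 := by
      calc ((p + 1 + j) ^ 2 + (p + 1 + j) - 1) * p ≤ ((p + 1 + j) ^ 2 + (p + 1 + j)) * p :=
            Nat.mul_le_mul_right _ (Nat.sub_le _ _)
        _ ≤ _ := by nlinarith
    have h2 : 0 < (p + 1 + j) ^ 2 + (p + 1 + j) - 1 := by
      have : 0 < (p + 1 + j) ^ 2 := by positivity
      omega
    calc _ < p * ManyClasses.kpi (insert (p + 1 + j) σ) G * ((p + 1 + j) ^ 2 + (p + 1 + j) - 1) :=
          Nat.mul_lt_mul_of_pos_right hk h2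
      _ = ((p + 1 + j) ^ 2 + (p + 1 + j) - 1) * p * ManyClasses.kpi (insert (p + 1 + j) σ) G := by ring
      _ ≤ _ := Nat.mul_le_mul_right _ h1
  refine ⟨hab, ?_⟩
  by_contra hX
  push Not at hX
  set N := Subgroup.normalizer ((Q : Subgroup G) : Set G) with hN0
  set C := Subgroup.centralizer ((Q : Subgroup G) : Set G) with hC0
  have hCN : C ≤ N := centralizer_le_normalizer _
  set X := ManyClasses.kpi σ ↥C with hXdef
  set Y := ManyClasses.kpi σ G with hYdef
  set m := ManyClasses.part σ (Nat.card G) with hmdef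
  set w := C.relIndex N with hw
  have hm : 0 < m := part_pos hσ _
  have hYm : Y ≤ m := ManyClasses.kpi_le_part σ hσ G
  have hXpos : 0 < X := kpi_pos σ ↥C
  have hXC : X ≤ ManyClasses.part σ (Nat.card ↥C) := ManyClasses.kpi_le_part σ hσ _
  have hp2 := hp.two_le
  have hNC : Nat.card ↥N = w * Nat.card ↥C := by
    have h1 := Subgroup.relIndex_mul_relIndex ⊥ C N bot_le hCN
    rw [Subgroup.relIndex_bot_left, Subgroup.relIndex_bot_left, mul_comm] at h1
    exact h1.symm
  have hwpos : 0 < w := Nat.pos_of_ne_zero fun h => Nat.card_pos.ne' (by rw [hNC, h, zero_mul] : Nat.card ↥N = 0)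
  -- the main inequality after cancelling
  have hmain : q * w * ManyClasses.kpi (insert q σ) G ≤
      Nat.card ↥(Q : Subgroup G) * (w * Y + (q - 1) * X) := by
    refine Nat.le_of_mul_le_mul_right (c := Nat.card ↥C) ?_ Nat.card_pos
    have h1 := main_bound Q σ
    rw [← hN0, ← hC0, hNC] at h1
    convert h1 using 1 <;> ring
  have hstar : q * w * m < p * w * Y + (q - 1) * (p * X) := by
    refine Nat.lt_of_mul_lt_mul_left (a := Nat.card ↥(Q : Subgroup G)) ?_
    calc Nat.card ↥(Q : Subgroup G) * (q * w * m) = q * w * (Nat.card ↥(Q : Subgroup G) * m) := by ring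
      _ < q * w * (p * ManyClasses.kpi (insert q σ) G) :=
          Nat.mul_lt_mul_of_pos_left hk (Nat.mul_pos hq.out.pos hwpos)
      _ = p * (q * w * ManyClasses.kpi (insert q σ) G) := by ring
      _ ≤ p * (Nat.card ↥(Q : Subgroup G) * (w * Y + (q - 1) * X)) := Nat.mul_le_mul_left _ hmain
      _ = _ := by ring
  obtain ⟨t, ht⟩ : ∃ t, q = p + 1 + t := ⟨q - (p + 1), by omega⟩
  have hq1 : q - 1 = p + t := by omega
  rw [hq1] at hstar
  rcases Nat.lt_or_ge w 2 with hw2 | hw2
  · -- the normalizer centralizes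
    have hw1 : w = 1 := by omega
    have hN : N ≤ C := Subgroup.relIndex_eq_one.1 hw1
    rw [hw1] at hstar
    by_cases hfull : ∀ r ∈ σ, (Nat.card ↥C).factorization r = (Nat.card G).factorization r
    · have hYX : Y ≤ X := kpi_le_of_conj_mem σ C (forall_conj_mem Q hN hqσ hfull)
      have h1 : p * Y ≤ m := (Nat.mul_le_mul_left _ hYX).trans hX
      have h2 : (p + t) * (p * X) ≤ (p + t) * m := Nat.mul_le_mul_left _ hX
      rw [ht] at hstar
      nlinarith
    · push Not at hfull
      obtain ⟨r, hr, hne⟩ := hfull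
      haveI := Fact.mk (hσ r hr)
      have hrq : r ≠ q := fun h => hqσ (h ▸ hr)
      have hle : (Nat.card ↥C).factorization r ≤ (Nat.card G).factorization r :=
        (Nat.factorization_le_iff_dvd Nat.card_pos.ne' Nat.card_pos.ne').2
          (Subgroup.card_subgroup_dvd_card C) r
      set a := (Nat.card ↥C).factorization r with ha
      set b := (Nat.card G).factorization r with hb
      obtain ⟨S⟩ : Nonempty (Sylow r ↥C) := inferInstance
      set D := (S : Subgroup ↥C).map C.subtype with hD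
      have hQD : (Q : Subgroup G) ≤ Subgroup.normalizer (D : Set G) := by
        refine le_trans ?_ (centralizer_le_normalizer D)
        intro y hy
        refine Subgroup.mem_centralizer_iff.2 fun z hz => ?_
        exact (Subgroup.mem_centralizer_iff.1 (Subgroup.map_subtype_le _ hz) y hy).symm
      obtain ⟨R, hDR, -, hR, hQR, hRc⟩ := exists_invariant_sylow Q hN hrq
        (le_top : (Q : Subgroup G) ≤ ⊤) le_top (S.isPGroup'.map C.subtype) hQD
      rw [Subgroup.card_top] at hRc
      letI : MulAction ↥(Q : Subgroup G) ↥R :=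
        { smul := fun y z => ⟨(y : G) * z * (y : G)⁻¹, (Subgroup.mem_normalizer_iff.1 (hQR y.2) _).1 z.2⟩
          one_smul := fun z => Subtype.ext (by
            show ((1 : ↥(Q : Subgroup G)) : G) * z * ((1 : ↥(Q : Subgroup G)) : G)⁻¹ = z; simp)
          mul_smul := fun y y' z => Subtype.ext (by
            show ((y * y' : ↥(Q : Subgroup G)) : G) * z * ((y * y' : ↥(Q : Subgroup G)) : G)⁻¹ =
              (y : G) * ((y' : G) * z * (y' : G)⁻¹) * (y : G)⁻¹
            push_cast; group) }
      have hfixed : Nat.card (MulAction.fixedPoints ↥(Q : Subgroup G) ↥R) = r ^ a := by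
        have h1 : Nat.card (MulAction.fixedPoints ↥(Q : Subgroup G) ↥R) = Nat.card ↥(R ⊓ C) :=
          Nat.card_congr
            { toFun := fun z => ⟨(z.1 : G), z.1.2, Subgroup.mem_centralizer_iff.2 fun y hy => by
                have h2 : y * (z.1 : G) * y⁻¹ = (z.1 : G) := congrArg Subtype.val (z.2 ⟨y, hy⟩)
                exact mul_inv_eq_iff_eq_mul.1 h2⟩
              invFun := fun z => ⟨⟨z, z.2.1⟩, fun y => Subtype.ext (by
                show (y : G) * (z : G) * (y : G)⁻¹ = z
                rw [Subgroup.mem_centralizer_iff.1 z.2.2 y y.2, mul_inv_cancel_right])⟩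
              left_inv := fun _ => rfl
              right_inv := fun _ => rfl }
        rw [h1]
        obtain ⟨n, hn⟩ := IsPGroup.iff_card.1 (hR.to_le (inf_le_left : R ⊓ C ≤ R))
        refine le_antisymm ?_ ?_
        · rw [hn]
          refine Nat.pow_le_pow_right (hσ r hr).pos
            (((hσ r hr).pow_dvd_iff_le_factorization Nat.card_pos.ne').1 ?_)
          rw [← hn]
          exact Subgroup.card_dvd_of_le inf_le_right
        · calc r ^ a = Nat.card D := by
                rw [hD, Subgroup.card_map_of_injective C.subtype_injective, S.card_eq_multiplicity]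
            _ ≤ _ := Subgroup.card_le_of_le (le_inf hDR (Subgroup.map_subtype_le _))
      have hmod := Q.isPGroup'.card_modEq_card_fixedPoints ↥R
      rw [hfixed, hRc, ← hb] at hmod
      obtain ⟨e, he⟩ : ∃ e, b = a + e := ⟨b - a, by omega⟩
      rw [he, pow_add] at hmod
      have hmod1 : r ^ e ≡ 1 [MOD q] := by
        refine Nat.ModEq.cancel_left_of_coprime (c := r ^ a) ?_ (by rw [mul_one]; exact hmod)
        exact (Nat.Coprime.pow_right a ((Nat.coprime_primes hq.out (hσ r hr)).2 (Ne.symm hrq)))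
      have hre : q + 1 ≤ r ^ e := by
        have h1 : 1 < r ^ e := Nat.one_lt_pow (by omega) (hσ r hr).one_lt
        have h2 := (Nat.modEq_iff_dvd' h1.le).1 hmod1.symm
        have := Nat.le_of_dvd (by omega) h2
        omega
      have hbig : (q + 1) * X ≤ m :=
        calc (q + 1) * X ≤ r ^ e * ManyClasses.part σ (Nat.card ↥C) := Nat.mul_le_mul hre hXC
          _ ≤ m := part_mul_pow_le hσ hr (Subgroup.card_subgroup_dvd_card C) Nat.card_pos.ne'
              (by rw [← ha, ← hb]; omega)
      have hbad : q * Y ≤ m + (q - 1) * X := by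
        refine (bad_bound Q hN hqσ).trans (Nat.add_le_add_right ?_ _)
        exact (ManyClasses.kpi_le_part σ hσ _).trans
          (ManyClasses.part_le_of_dvd hσ (Subgroup.card_subgroup_dvd_card _) Nat.card_pos.ne')
      rw [hq1] at hbad
      have h1 : q * (q * 1 * m) < q * (p * 1 * Y + (p + t) * (p * X)) :=
        Nat.mul_lt_mul_of_pos_left hstar hq.out.pos
      have h2 : q * (q * m) < p * (m + (p + t) * X) + q * (p + t) * (p * X) := by
        calc q * (q * m) = q * (q * 1 * m) := by ring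
          _ < _ := h1
          _ = p * (q * Y) + q * (p + t) * (p * X) := by ring
          _ ≤ _ := Nat.add_le_add_right (Nat.mul_le_mul_left _ hbad) _
      have h3 : (p + t) * p * ((q + 1) * X) ≤ (p + t) * p * m := Nat.mul_le_mul_left _ hbig
      have h4 : q * (q * m) < q * (p * m) := by
        calc q * (q * m) < _ := h2
          _ = p * m + (p + t) * p * ((q + 1) * X) := by ring
          _ ≤ p * m + (p + t) * p * m := Nat.add_le_add_left h3 _
          _ = q * (p * m) := by rw [ht]; ring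
      exact absurd (Nat.lt_of_mul_lt_mul_left h4) (not_lt.2 (Nat.mul_le_mul_right _ hpq.le))
  · -- the normalizer moves the subgroup
    have hstar' : q * w * m < p * w * Y + (p + t) * m :=
      hstar.trans_le (Nat.add_le_add_left (Nat.mul_le_mul_left _ hX) _)
    rcases Nat.lt_or_ge ((p + 1) * m) (2 * p * Y) with hY | hY
    swap
    · obtain ⟨j, hj⟩ : ∃ j, w = j + 2 := ⟨w - 2, by omega⟩
      have h1 : w * (2 * p * Y) ≤ w * ((p + 1) * m) := Nat.mul_le_mul_left _ hY
      rw [ht, hj] at hstar'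
      rw [hj] at h1
      have h2 : 2 * ((p + 1 + t) * (j + 2) * m) < (j + 2) * ((p + 1) * m) + 2 * ((p + t) * m) := by
        linarith
      nlinarith [Nat.zero_le (j * p * m), Nat.zero_le (j * t * m), Nat.zero_le (j * m),
        Nat.zero_le (t * m)]
    rcases Nat.lt_or_ge w p with hwp | hwp
    swap
    · obtain ⟨j, hj⟩ : ∃ j, w = j + p := ⟨w - p, by omega⟩
      have h1 : p * w * Y ≤ p * w * m := Nat.mul_le_mul_left _ hYm
      rw [ht, hj] at hstar'
      rw [hj] at h1
      have h2 : (p + 1 + t) * (j + p) * m < p * (j + p) * m + (p + t) * m := by linarith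
      nlinarith [Nat.zero_le (j * t * m), Nat.zero_le (j * m),
        Nat.le_mul_of_pos_left (t * m) hp.pos]
    have hσne : σ.Nonempty := by
      rw [Finset.nonempty_iff_ne_empty]
      intro h0
      have hm1 : m = 1 := by rw [hmdef, h0, ManyClasses.part, Finset.prod_empty]
      rw [hm1] at hX
      nlinarith
    set p' := σ.min' hσne with hp'
    have hp'σ : p' ∈ σ := Finset.min'_mem _ _
    have hpp' := hge p' hp'σ
    have h2σ : (2 : ℕ) ∉ σ := fun h => by have := hge 2 h; omega
    have hk' : (p' + 1) * m < 2 * p' * Y := by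
      refine Nat.lt_of_mul_lt_mul_left (a := p) ?_
      calc p * ((p' + 1) * m) ≤ p' * ((p + 1) * m) := by nlinarith
        _ < p' * (2 * p * Y) := Nat.mul_lt_mul_of_pos_left hY (by omega)
        _ = _ := by ring
    obtain ⟨⟨M, hMn, hMcard, hMidx⟩, H, hH, hHab⟩ := Cfsg.Agent.S3899.result (G := G) σ hσ h2σ p'
      hp'σ (fun r hr => Finset.min'_le σ r hr) hk'
    haveI := hMn
    have hQM : (Q : Subgroup G) ≤ M := by
      intro y hy
      have h1 : orderOf ((y : G) : G ⧸ M) ∣ M.index := by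
        rw [Subgroup.index_eq_card]; exact orderOf_dvd_natCard _
      obtain ⟨k, hk⟩ := IsPGroup.iff_orderOf.1 Q.isPGroup' ⟨y, hy⟩
      rw [Subgroup.orderOf_mk] at hk
      have h2 : orderOf ((y : G) : G ⧸ M) ∣ q ^ k := hk ▸ orderOf_map_dvd (QuotientGroup.mk' M) y
      obtain ⟨i, -, hi⟩ := (Nat.dvd_prime_pow hq.out).1 h2
      rw [hi] at h1
      rcases Nat.eq_zero_or_pos i with rfl | hi0
      · rw [pow_zero, orderOf_eq_one_iff, QuotientGroup.eq_one_iff] at hi
        exact hi
      · exact absurd (hMidx q hq.out ((dvd_pow_self q hi0.ne').trans h1)) hqσ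
    have hNM : N ⊔ M = ⊤ := Sylow.normalizer_sup_eq_top' Q hQM
    have hNidx : ∀ r ∈ σ, ¬ r ∣ C.index := by
      intro r hr hd
      rw [← Subgroup.relIndex_mul_index hCN, ← hw] at hd
      rcases (hσ r hr).dvd_mul.1 hd with h | h
      · have h1 := Nat.le_of_dvd hwpos h
        have h2 := hge r hr
        omega
      · refine hMcard r (hσ r hr) ?_ hr
        have h1 : M.relIndex N = M.index := by
          rw [← Subgroup.relIndex_top_right M, ← hNM, Subgroup.relIndex_sup_right]
        refine h.trans ⟨Nat.card ↥(M ⊓ N), ?_⟩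
        have h2 := Subgroup.relIndex_mul_relIndex ⊥ (M ⊓ N) N bot_le inf_le_right
        rw [Subgroup.relIndex_bot_left, Subgroup.relIndex_bot_left, Subgroup.inf_relIndex_right,
          h1] at h2
        have h3 := Subgroup.card_mul_index M
        rw [← N.card_mul_index, ← h2] at h3
        refine Nat.eq_of_mul_eq_mul_right (Nat.pos_of_ne_zero (M.index_ne_zero_of_finite)) ?_
        rw [h3]; ring
    have hCM : C ⊔ M = ⊤ := by
      rw [← Subgroup.index_eq_one]
      by_contra hne
      obtain ⟨r, hr, hrd⟩ := Nat.exists_prime_and_dvd hne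
      exact hNidx r (hMidx r hr (hrd.trans (Subgroup.index_dvd_of_le le_sup_right)))
        (hrd.trans (Subgroup.index_dvd_of_le le_sup_left))
    have hHM : H ⊔ M = ⊤ := by
      rw [← Subgroup.index_eq_one]
      by_contra hne
      obtain ⟨r, hr, hrd⟩ := Nat.exists_prime_and_dvd hne
      exact hH.2 r hr (hMidx r hr (hrd.trans (Subgroup.index_dvd_of_le le_sup_right)))
        (hrd.trans (Subgroup.index_dvd_of_le le_sup_left))
    have habq : ∀ x y : G ⧸ M, x * y = y * x := by
      have hs : ∀ x : G ⧸ M, ∃ h ∈ H, ((h : G) : G ⧸ M) = x := by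
        intro x
        obtain ⟨g, rfl⟩ := QuotientGroup.mk_surjective x
        obtain ⟨h, hh, k, hk, rfl⟩ := Subgroup.mem_sup_of_normal_right.1
          (show g ∈ H ⊔ M by rw [hHM]; exact Subgroup.mem_top _)
        refine ⟨h, hh, ?_⟩
        rw [QuotientGroup.mk_mul, (QuotientGroup.eq_one_iff k).2 hk, mul_one]
      intro x y
      obtain ⟨a, ha, rfl⟩ := hs x
      obtain ⟨b, hb, rfl⟩ := hs y
      rw [← QuotientGroup.mk_mul, ← QuotientGroup.mk_mul,
        show a * b = b * a from congrArg Subtype.val (hHab.is_comm.comm ⟨a, ha⟩ ⟨b, hb⟩)]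
    have hlift : ∀ x : G ⧸ M, ∃ c : ↥C, ((c : G) : G ⧸ M) = x ∧ IsSig σ c := by
      intro x
      have hex : ∃ n, ∃ c : ↥C, ((c : G) : G ⧸ M) = x ∧ orderOf c = n := by
        obtain ⟨g, rfl⟩ := QuotientGroup.mk_surjective x
        obtain ⟨h, hh, k, hk, rfl⟩ := Subgroup.mem_sup_of_normal_right.1
          (show g ∈ C ⊔ M by rw [hCM]; exact Subgroup.mem_top _)
        refine ⟨_, ⟨h, hh⟩, ?_, rfl⟩
        rw [QuotientGroup.mk_mul, (QuotientGroup.eq_one_iff k).2 hk, mul_one]
      obtain ⟨c, hcx, hcn⟩ := Nat.find_spec hex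
      refine ⟨c, hcx, fun r hr hrd => ?_⟩
      by_contra hrσ
      haveI := Fact.mk hr
      obtain ⟨a, v, hav, -, hv, ⟨k, hk⟩, hcop⟩ := exists_pPart_mul (p := r) c
      have ha1 : (((a : ↥C) : G) : G ⧸ M) = 1 := by
        rw [← orderOf_eq_one_iff]
        have h1 : orderOf (((a : ↥C) : G) : G ⧸ M) ∣ r ^ k := by
          rw [← hk]
          exact orderOf_map_dvd ((QuotientGroup.mk' M).comp C.subtype) a
        have h2 : orderOf (((a : ↥C) : G) : G ⧸ M) ∣ M.index := by
          rw [Subgroup.index_eq_card]; exact orderOf_dvd_natCard _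
        obtain ⟨i, -, hi⟩ := (Nat.dvd_prime_pow hr).1 h1
        rw [hi] at h2 ⊢
        rcases Nat.eq_zero_or_pos i with rfl | hi0
        · rfl
        · exact absurd (hMidx r hr ((dvd_pow_self r hi0.ne').trans h2)) hrσ
      have hvx : ((v : G) : G ⧸ M) = x := by
        rw [← hcx, ← hav, Subgroup.coe_mul, QuotientGroup.mk_mul, ha1, one_mul]
      have hvlt : orderOf v < orderOf c := by
        refine lt_of_le_of_ne (Nat.le_of_dvd (orderOf_pos c) (orderOf_dvd_of_mem_zpowers hv)) fun h => ?_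
        rw [← h] at hrd
        exact hr.ne_one (Nat.eq_one_of_dvd_coprimes hcop hrd dvd_rfl)
      exact Nat.find_min hex (hcn ▸ hvlt) ⟨v, hvx, rfl⟩
    choose c hc hcs using hlift
    have hMX : M.index ≤ X := by
      rw [Subgroup.index_eq_card]
      refine Nat.card_le_card_of_injective (fun x => clMk (c x) (hcs x)) fun x y h => ?_
      obtain ⟨e, he⟩ := isConj_iff.1 (ConjClasses.mk_eq_mk_iff_isConj.1 (congrArg Subtype.val h))
      have he' := congrArg (fun z : ↥C => ((z : G) : G ⧸ M)) he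
      simp only [Subgroup.coe_mul, Subgroup.coe_inv, QuotientGroup.mk_mul, QuotientGroup.mk_inv, hc] at he'
      rwa [habq _ x, mul_inv_cancel_right] at he'
    have hmM : m ≤ M.index := by
      have h0 : m ∣ M.index := by
        have e : m = ManyClasses.part σ M.index := Finset.prod_congr rfl fun r hr => by
          rw [← M.card_mul_index, Nat.factorization_mul Nat.card_pos.ne' M.index_ne_zero_of_finite,
            Finsupp.add_apply,
            Nat.factorization_eq_zero_of_not_dvd fun h => hMcard r (hσ r hr) h hr, zero_add]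
        rw [e]
        exact part_dvd hσ _
      exact Nat.le_of_dvd (Nat.pos_of_ne_zero M.index_ne_zero_of_finite) h0
    have hfin : 2 * X ≤ X :=
      calc 2 * X ≤ p * X := Nat.mul_le_mul_right _ hp2
        _ ≤ m := hX
        _ ≤ X := hmM.trans hMX
    omega

end Cfsg.Agent.PiClasses
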