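/-
Many classes of `π`-elements give a nilpotent Hall `π`-subgroup.
-/
import Mathlib
import Cfsg.Agent.Lib.PiClasses.PGroup
import Cfsg.Agent.Lib.PiClasses.Step

set_option autoImplicit false
set_option linter.style.haveILetI false

namespace Cfsg.Agent.PiClasses

open Cfsg.Agent.PBasic
open Cfsg.Agent

universe u

theorem kpi_singleton (p : ℕ) [hp : Fact p.Prime] (G : Type u) [Group G] [Finite G] :
    ManyClasses.kpi {p} G = ManyClasses.kp p G := by
  refine Nat.card_congr (Equiv.subtypeEquivRight fun c => forall₂_congr fun x _ => ?_)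
  constructor
  · intro h
    obtain ⟨k, hk⟩ : ∃ k, orderOf x = p ^ k :=
      ⟨_, Nat.eq_prime_pow_of_unique_prime_dvd (orderOf_pos x).ne' fun {d} hd hdvd =>
        Finset.mem_singleton.1 (h d hd hdvd)⟩
    exact ⟨k, hk⟩
  · rintro ⟨k, hk⟩ r hr hd
    rw [hk] at hd
    exact Finset.mem_singleton.2 ((Nat.prime_dvd_prime_iff_eq hr hp.out).1 (hr.dvd_of_dvd_pow hd))

theorem exists_hall (π : Finset ℕ) : (∀ s ∈ π, s.Prime) → ∀ (p : ℕ), p ∈ π → (∀ s ∈ π, p ≤ s) →
    ∀ (G : Type u) [Group G] [Finite G],
    ManyClasses.part π (Nat.card G) < p * ManyClasses.kpi π G →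
    ∃ H : Subgroup G, Nat.card H = ManyClasses.part π (Nat.card G) ∧ Group.IsNilpotent H ∧
      Nat.card (commutator H) ≤ p ∧
      ((∀ P : Sylow p G, IsMulCommutative ↥(P : Subgroup G)) → IsMulCommutative H) := by
  induction π using Finset.strongInductionOn with
  | _ π ih =>
    intro hπ p hp hmin G _ _ hk
    haveI := Fact.mk (hπ p hp)
    set q := π.max' ⟨p, hp⟩ with hq
    have hqπ : q ∈ π := Finset.max'_mem _ _
    haveI hqf : Fact q.Prime := Fact.mk (hπ q hqπ)
    rcases eq_or_lt_of_le (hmin q hqπ) with hpq | hpq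
    · -- a single prime
      have hsing : π = {p} := by
        refine Finset.eq_singleton_iff_unique_mem.2 ⟨hp, fun s hs => le_antisymm ?_ (hmin s hs)⟩
        rw [hpq]
        exact Finset.le_max' π s hs
      subst hsing
      obtain ⟨P⟩ : Nonempty (Sylow p G) := inferInstance
      have hpart : ManyClasses.part {p} (Nat.card G) = Nat.card ↥(P : Subgroup G) := by
        rw [ManyClasses.part, Finset.prod_singleton, P.card_eq_multiplicity]
      rw [hpart, kpi_singleton] at hk
      refine ⟨P, hpart.symm, P.isPGroup'.isNilpotent, ?_, fun h => h P⟩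
      exact card_commutator_le_of_classes P.isPGroup'
        (hk.trans_le (Nat.mul_le_mul_left _ (ManyClasses.kp_le_classes P)))
    · set σ := π.erase q with hσdef
      have hσ : ∀ r ∈ σ, r.Prime := fun r hr => hπ r (Finset.mem_of_mem_erase hr)
      have hqσ : q ∉ σ := Finset.notMem_erase q π
      have hins : insert q σ = π := Finset.insert_erase hqπ
      have hge : ∀ r ∈ σ, p ≤ r := fun r hr => hmin r (Finset.mem_of_mem_erase hr)
      have hpσ : p ∈ σ := Finset.mem_erase.2 ⟨hpq.ne, hp⟩
      obtain ⟨Q⟩ : Nonempty (Sylow q G) := inferInstance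
      have hpart : ManyClasses.part π (Nat.card G) =
          Nat.card ↥(Q : Subgroup G) * ManyClasses.part σ (Nat.card G) := by
        rw [Q.card_eq_multiplicity, hσdef, ManyClasses.part_erase hqπ]
      rw [hpart, ← hins] at hk
      obtain ⟨hQab, hX⟩ := step (hπ p hp) hpq Q hσ hqσ hge hk
      set C := Subgroup.centralizer ((Q : Subgroup G) : Set G) with hC
      set m := ManyClasses.part σ (Nat.card G) with hm
      have hXle := ManyClasses.kpi_le_part σ hσ ↥C
      have hfull : ManyClasses.part σ (Nat.card ↥C) = m := by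
        refine Finset.prod_congr rfl fun r hr => congrArg (r ^ ·) ?_
        refine le_antisymm ((Nat.factorization_le_iff_dvd Nat.card_pos.ne' Nat.card_pos.ne').2
          (Subgroup.card_subgroup_dvd_card C) r) ?_
        by_contra hlt
        push Not at hlt
        have h1 := part_mul_pow_le hσ hr (e := 1) (Subgroup.card_subgroup_dvd_card C)
          Nat.card_pos.ne' hlt
        rw [pow_one] at h1
        have h2 : p * ManyClasses.kpi σ ↥C ≤ m :=
          (Nat.mul_le_mul (hge r hr) hXle).trans h1
        omega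
      rw [← hfull] at hX
      obtain ⟨H, hHc, hHn, hHd, hHab⟩ := ih σ (Finset.erase_ssubset hqπ) hσ p hpσ hge ↥C hX
      set f := C.subtype.comp H.subtype with hf
      have hcomm : ∀ (a : ↥(Q : Subgroup G)) (b : ↥H), Commute ((Q : Subgroup G).subtype a) (f b) :=
        fun a b => Subgroup.mem_centralizer_iff.1 (b : ↥C).2 a a.2
      set φ := MonoidHom.noncommCoprod (Q : Subgroup G).subtype f hcomm with hφ
      have hinj : Function.Injective φ := by
        rw [injective_iff_map_eq_one]
        rintro ⟨a, b⟩ hab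
        have hab' : (a : G) * ((b : ↥C) : G) = 1 := hab
        have hb : ((b : ↥C) : G) = (a : G)⁻¹ := eq_inv_of_mul_eq_one_right hab'
        have ha1 : a = 1 := by
          rw [← orderOf_eq_one_iff]
          have h1 : orderOf a ∣ Nat.card H := by
            rw [← Subgroup.orderOf_coe a, ← orderOf_inv (a : G), ← hb, Subgroup.orderOf_coe,
              Subgroup.orderOf_coe]
            exact orderOf_dvd_natCard _
          obtain ⟨k, hk'⟩ := IsPGroup.iff_orderOf.1 Q.isPGroup' a
          rw [hk'] at h1 ⊢
          rcases Nat.eq_zero_or_pos k with rfl | hk0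
          · rfl
          · have h2 := (dvd_pow_self q hk0.ne').trans h1
            rw [hHc, hfull, hm, ManyClasses.part, (Prime.dvd_finsetProd_iff hqf.out.prime _)] at h2
            obtain ⟨r, hr, hqr⟩ := h2
            exact absurd ((Nat.prime_dvd_prime_iff_eq hqf.out (hσ r hr)).1
              (hqf.out.dvd_of_dvd_pow hqr) ▸ hr) hqσ
        subst ha1
        rw [OneMemClass.coe_one, inv_one] at hb
        exact Prod.ext rfl (Subtype.ext (Subtype.ext hb))
      refine ⟨φ.range, ?_, ?_, ?_, ?_⟩
      · rw [← Nat.card_congr (MonoidHom.ofInjective hinj).toEquiv, Nat.card_prod, hHc, hfull, hpart]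
      · haveI : Group.IsNilpotent ↥(Q : Subgroup G) := Q.isPGroup'.isNilpotent
        haveI := hHn
        exact nilpotent_of_surjective φ.rangeRestrict φ.rangeRestrict_surjective
      · have hmap : commutator φ.range = (commutator (↥(Q : Subgroup G) × ↥H)).map φ.rangeRestrict := by
          rw [commutator_def, commutator_def, Subgroup.map_commutator,
            Subgroup.map_top_of_surjective _ φ.rangeRestrict_surjective]
        have hQ1 : commutator ↥(Q : Subgroup G) = ⊥ := by
          rw [commutator_def, Subgroup.commutator_eq_bot_iff_le_centralizer]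
          intro x _
          exact Subgroup.mem_centralizer_iff.2 fun y _ => hQab.is_comm.comm y x
        rw [hmap, Subgroup.card_map_of_injective (fun x y h => hinj (congrArg Subtype.val h)),
          commutator_def, ← Subgroup.top_prod_top, Subgroup.commutator_prod_prod, ← commutator_def,
          ← commutator_def, hQ1,
          Nat.card_congr (Subgroup.prodEquiv _ _).toEquiv, Nat.card_prod, Subgroup.card_bot, one_mul]
        exact hHd
      · intro hP
        have hH' : IsMulCommutative H := hHab fun S => by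
          obtain ⟨P, hPle⟩ := (S.isPGroup'.map C.subtype).exists_le_sylow
          refine ⟨⟨fun x y => ?_⟩⟩
          refine Subtype.ext (Subtype.ext ?_)
          have h1 := congrArg Subtype.val ((hP P).is_comm.comm ⟨_, hPle ⟨(x : ↥C), x.2, rfl⟩⟩
            ⟨_, hPle ⟨(y : ↥C), y.2, rfl⟩⟩)
          exact h1
        refine ⟨⟨?_⟩⟩
        rintro ⟨_, ⟨a, b⟩, rfl⟩ ⟨_, ⟨a', b'⟩, rfl⟩
        refine Subtype.ext ?_
        show φ (a, b) * φ (a', b') = φ (a', b') * φ (a, b)
        rw [← map_mul, ← map_mul, Prod.mk_mul_mk, Prod.mk_mul_mk, hQab.is_comm.comm a a',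
          hH'.is_comm.comm b b']

/-- The finite set of primes used for a `π`-part given by divisibility. -/
theorem exists_finset {G : Type u} [Group G] [Finite G] (π : Set ℕ) {p : ℕ}
    (hp : p ∈ π) {m : ℕ} (hm : m ∣ Nat.card G) (hmπ : ∀ q : ℕ, q.Prime → q ∣ m → q ∈ π)
    (hm' : ∀ q ∈ π, ¬ q ∣ Nat.card G / m) :
    ∃ π' : Finset ℕ, (∀ s ∈ π', s ∈ π) ∧ p ∈ π' ∧ ManyClasses.part π' (Nat.card G) = m ∧
      Nat.card {C : ConjClasses G // ∀ q : ℕ, q.Prime →
        (∃ g : G, ConjClasses.mk g = C ∧ q ∣ orderOf g) → q ∈ π} = ManyClasses.kpi π' G := by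
  classical
  set n := Nat.card G with hn
  set π' := insert p (n.primeFactors.filter (· ∈ π)) with hπ'
  have hsub : ∀ s ∈ π', s ∈ π := by
    intro s hs
    rcases Finset.mem_insert.1 hs with rfl | h
    · exact hp
    · exact (Finset.mem_filter.1 h).2
  have hmem : ∀ s, s.Prime → s ∣ n → s ∈ π → s ∈ π' := fun s h1 h2 h3 =>
    Finset.mem_insert_of_mem (Finset.mem_filter.2 ⟨Nat.mem_primeFactors.2 ⟨h1, h2, Nat.card_pos.ne'⟩, h3⟩)
  have hn0 : n ≠ 0 := Nat.card_pos.ne'
  have hm0 : m ≠ 0 := ne_zero_of_dvd_ne_zero hn0 hm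
  have hfac : ∀ r ∈ π', n.factorization r = m.factorization r := by
    intro r hr
    obtain ⟨e, he⟩ := hm
    have he' : n / m = e := by rw [he, Nat.mul_div_cancel_left _ (Nat.pos_of_ne_zero hm0)]
    have h1 := hm' r (hsub r hr)
    rw [he'] at h1
    rw [he, Nat.factorization_mul hm0 (by rintro rfl; exact hn0 (by rw [he, mul_zero])), Finsupp.add_apply,
      Nat.factorization_eq_zero_of_not_dvd h1, add_zero]
  refine ⟨π', hsub, Finset.mem_insert_self _ _, ?_, ?_⟩
  · conv_rhs => rw [← Nat.prod_factorization_pow_eq_self hm0]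
    rw [ManyClasses.part, Finsupp.prod_of_support_subset m.factorization (s := π') ?_ _
      (fun i _ => pow_zero i)]
    · exact Finset.prod_congr rfl fun r hr => by rw [hfac r hr]
    · intro r hr
      rw [Nat.support_factorization] at hr
      have h1 := Nat.prime_of_mem_primeFactors hr
      have h2 := Nat.dvd_of_mem_primeFactors hr
      exact hmem r h1 (h2.trans hm) (hmπ r h1 h2)
  · refine Nat.card_congr (Equiv.subtypeEquivRight fun c => ⟨fun h x hx r hr hd => ?_, ?_⟩)
    · exact hmem r hr (hd.trans (orderOf_dvd_natCard x))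
        (h r hr ⟨x, ConjClasses.mem_carrier_iff_mk_eq.1 hx, hd⟩)
    · rintro h r hr ⟨x, hx, hd⟩
      exact hsub r (h x (ConjClasses.mem_carrier_iff_mk_eq.2 hx) r hr hd)

end Cfsg.Agent.PiClasses
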